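import Cfsg.Agent.H27.BNPair

/-! Kernels on `G / B` given by functions on the Weyl group of a BN-pair. -/

set_option autoImplicit false

namespace Cfsg.Agent.H38.FH

open Cfsg.Agent.H27.BN
open scoped Matrix

universe u

variable {G : Type u} [Group G] (P : Cfsg.BNPair G)

instance hnormal : ((P.B ⊓ P.N).subgroupOf P.N).Normal :=
  ⟨fun t ht n => by
    have h := Subgroup.mem_subgroupOf.mp ht
    exact Subgroup.mem_subgroupOf.mpr
      ⟨P.conj_mem _ n.2 _ h, (n * t * n⁻¹).2⟩⟩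

/-- The Weyl group. -/
abbrev Weyl : Type u := ↥P.N ⧸ (P.B ⊓ P.N).subgroupOf P.N

variable {P}

lemma mk_eq_iff (n m : P.N) : (n : Weyl P) = m ↔ Eqv P (n : G) m := by
  rw [QuotientGroup.eq, Subgroup.mem_subgroupOf]
  exact ⟨fun h => h.1, fun h => ⟨h, (n⁻¹ * m).2⟩⟩

variable (P)

/-- The class in the Weyl group of the Bruhat cell of an element. -/
noncomputable def cls (g : G) : Weyl P :=
  ((⟨(exists_mem_cell P g).choose, (exists_mem_cell P g).choose_spec.1⟩ : P.N) : Weyl P)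

variable {P}

lemma cls_spec (g : G) : ∃ n : P.N, (n : Weyl P) = cls P g ∧ g ∈ cell P (n : G) :=
  ⟨_, rfl, (exists_mem_cell P g).choose_spec.2⟩

lemma cls_of_mem {g : G} {n : P.N} (h : g ∈ cell P (n : G)) : cls P g = n := by
  obtain ⟨m, hm, hg⟩ := cls_spec (P := P) g
  rw [← hm]
  exact (mk_eq_iff m n).mpr (eqv_of_mem_cells P m.2 n.2 hg h)

lemma cls_coe (n : P.N) : cls P (n : G) = n := cls_of_mem (self_mem_cell P _)

lemma cls_mul_B {b c g : G} (hb : b ∈ P.B) (hc : c ∈ P.B) : cls P (b * g * c) = cls P g := by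
  obtain ⟨m, hm, hg⟩ := cls_spec (P := P) g
  rw [← hm, cls_of_mem (mul_mem_cell P hb hc hg)]

lemma cls_eq_one {g : G} : cls P g = 1 ↔ g ∈ P.B := by
  refine ⟨fun h => ?_, fun h => ?_⟩
  · obtain ⟨m, hm, hg⟩ := cls_spec (P := P) g
    rw [h, ← QuotientGroup.mk_one, mk_eq_iff] at hm
    rw [← cell_one_iff P]
    have h1 : cell P (m : G) = cell P 1 := hm.cell_eq
    rwa [h1] at hg
  · rw [← QuotientGroup.mk_one]
    exact cls_of_mem ((cell_one_iff P).mpr h)

lemma mem_cell_inv {a x : G} (h : x ∈ cell P a) : x⁻¹ ∈ cell P a⁻¹ := by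
  obtain ⟨b, hb, c, hc, rfl⟩ := (mem_cell P).1 h
  exact (mem_cell P).2 ⟨c⁻¹, inv_mem hc, b⁻¹, inv_mem hb, by group⟩

lemma cls_inv (g : G) : cls P g⁻¹ = (cls P g)⁻¹ := by
  obtain ⟨m, hm, hg⟩ := cls_spec (P := P) g
  rw [← hm, ← QuotientGroup.mk_inv]
  exact cls_of_mem (mem_cell_inv hg)

lemma cls_surjective : Function.Surjective (cls P) := fun w => by
  obtain ⟨n, rfl⟩ := QuotientGroup.mk_surjective w
  exact ⟨_, cls_coe n⟩

/-- The length function on the Weyl group. -/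
noncomputable def wlen (w : Weyl P) : ℕ := len P ((w.out : P.N) : G)

lemma wlen_mk (n : P.N) : wlen (n : Weyl P) = len P (n : G) :=
  len_congr P (n : Weyl P).out.2 n.2 ((mk_eq_iff _ n).mp (QuotientGroup.out_eq' _))

variable (P)

/-- The class of a distinguished generator. -/
def gen (s : G) (hs : s ∈ P.S) : Weyl P := ((⟨s, P.subset hs⟩ : P.N) : Weyl P)

variable {P} {s : G} (hs : s ∈ P.S)

lemma gen_mul_self : gen P s hs * gen P s hs = 1 := by
  rw [gen, ← QuotientGroup.mk_mul, QuotientGroup.eq_one_iff]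
  exact Subgroup.mem_subgroupOf.mpr ⟨P.sq_mem s hs, mul_mem (P.subset hs) (P.subset hs)⟩

lemma gen_ne_one : gen P s hs ≠ 1 := fun h => by
  rw [gen, QuotientGroup.eq_one_iff] at h
  exact not_mem_B P hs (Subgroup.mem_subgroupOf.mp h).1

lemma gen_inv : (gen P s hs)⁻¹ = gen P s hs := inv_eq_of_mul_eq_one_right (gen_mul_self hs)

lemma wlen_gen_ne (w : Weyl P) : wlen (gen P s hs * w) ≠ wlen w := by
  obtain ⟨n, rfl⟩ := QuotientGroup.mk_surjective w
  rw [gen, ← QuotientGroup.mk_mul, wlen_mk, wlen_mk]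
  exact len_smul_ne P hs n.2

lemma cls_mul_up {g h : G} {w : Weyl P} (hg : cls P g = gen P s hs) (hh : cls P h = w)
    (hup : wlen w < wlen (gen P s hs * w)) : cls P (g * h) = gen P s hs * w := by
  obtain ⟨n, rfl⟩ := QuotientGroup.mk_surjective w
  rw [gen, ← QuotientGroup.mk_mul, wlen_mk, wlen_mk] at hup
  obtain ⟨m, hm, hg'⟩ := cls_spec (P := P) g
  rw [hg, gen, mk_eq_iff] at hm
  rw [Eqv.cell_eq hm] at hg'
  obtain ⟨k, hk, hh'⟩ := cls_spec (P := P) h
  rw [hh, mk_eq_iff] at hk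
  rw [Eqv.cell_eq hk] at hh'
  obtain ⟨b₁, hb₁, b₂, hb₂, rfl⟩ := (mem_cell P).1 hg'
  obtain ⟨b₃, hb₃, b₄, hb₄, rfl⟩ := (mem_cell P).1 hh'
  rw [show b₁ * (⟨s, P.subset hs⟩ : P.N) * b₂ * (b₃ * (n : G) * b₄) =
    b₁ * (s * (b₂ * b₃) * (n : G)) * b₄ by group, cls_mul_B hb₁ hb₄, gen, ← QuotientGroup.mk_mul]
  exact cls_of_mem (cell_mul_of_len_le P hs n n.2 hup.le _ (mul_mem hb₂ hb₃))

lemma cls_gen_gen {g h : G} (hg : cls P g = gen P s hs) (hh : cls P h = gen P s hs) :
    cls P (g * h) = 1 ∨ cls P (g * h) = gen P s hs := by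
  obtain ⟨m, hm, hg'⟩ := cls_spec (P := P) g
  rw [hg, gen, mk_eq_iff] at hm
  rw [Eqv.cell_eq hm] at hg'
  obtain ⟨k, hk, hh'⟩ := cls_spec (P := P) h
  rw [hh, gen, mk_eq_iff] at hk
  rw [Eqv.cell_eq hk] at hh'
  obtain ⟨b₁, hb₁, b₂, hb₂, rfl⟩ := (mem_cell P).1 hg'
  obtain ⟨b₃, hb₃, b₄, hb₄, rfl⟩ := (mem_cell P).1 hh'
  have h1 := smul_mem_union P hs (P.subset hs)
    (left_mul_mem_cell P (mul_mem hb₂ hb₃) (self_mem_cell P s))
  rw [show b₁ * (⟨s, P.subset hs⟩ : P.N) * b₂ * (b₃ * (⟨s, P.subset hs⟩ : P.N) * b₄) =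
    b₁ * (s * (b₂ * b₃ * s)) * b₄ by group, cls_mul_B hb₁ hb₄]
  rcases h1 with h1 | h1
  · left
    rw [cls_of_mem (n := ⟨s * s, mul_mem (P.subset hs) (P.subset hs)⟩) h1]
    exact gen_mul_self hs
  · exact Or.inr (cls_of_mem (n := ⟨s, P.subset hs⟩) h1)

variable (P)

/-- The kernel on `G / B` of a function on the Weyl group. -/
noncomputable def ker (f : Weyl P → ℝ) : Matrix (G ⧸ P.B) (G ⧸ P.B) ℝ :=
  Matrix.of fun x y => f (cls P (x.out⁻¹ * y.out))

variable {P}

lemma ker_mk (f : Weyl P → ℝ) (g g' : G) : ker P f (g : G ⧸ P.B) g' = f (cls P (g⁻¹ * g')) := by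
  obtain ⟨b, hb⟩ := QuotientGroup.mk_out_eq_mul P.B g
  obtain ⟨c, hc⟩ := QuotientGroup.mk_out_eq_mul P.B g'
  show f (cls P ((g : G ⧸ P.B).out⁻¹ * (g' : G ⧸ P.B).out)) = _
  rw [hb, hc, show (g * (b : G))⁻¹ * (g' * c) = (b : G)⁻¹ * (g⁻¹ * g') * c by group,
    cls_mul_B (inv_mem b.2) c.2]

lemma ker_smul (f : Weyl P → ℝ) (k : G) (x y : G ⧸ P.B) : ker P f (k • x) (k • y) = ker P f x y := by
  obtain ⟨g, rfl⟩ := QuotientGroup.mk_surjective x
  obtain ⟨g', rfl⟩ := QuotientGroup.mk_surjective y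
  rw [MulAction.Quotient.smul_mk, MulAction.Quotient.smul_mk, ker_mk, ker_mk]
  congr 2
  simp [smul_eq_mul, mul_assoc]

lemma ker_transpose (f : Weyl P → ℝ) : (ker P f)ᵀ = ker P fun w => f w⁻¹ := by
  ext x y
  show f (cls P (y.out⁻¹ * x.out)) = f (cls P (x.out⁻¹ * y.out))⁻¹
  rw [← cls_inv, mul_inv_rev, inv_inv]

lemma ker_one_left (f : Weyl P → ℝ) (g : G) :
    ker P f ((1 : G) : G ⧸ P.B) g = f (cls P g) := by
  rw [ker_mk, inv_one, one_mul]

lemma ker_injective {f f' : Weyl P → ℝ} (h : ker P f = ker P f') : f = f' := by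
  funext w
  obtain ⟨g, rfl⟩ := cls_surjective w
  rw [← ker_one_left f g, h, ker_one_left]

/-- A matrix on `G / B` invariant under `G` is the kernel of a function. -/
lemma exists_ker {M : Matrix (G ⧸ P.B) (G ⧸ P.B) ℝ} (h : ∀ (k : G) x y, M (k • x) (k • y) = M x y) :
    ∃ f, M = ker P f := by
  refine ⟨fun w => M ((1 : G) : G ⧸ P.B) ((w.out : P.N) : G), ?_⟩
  ext x y
  obtain ⟨g, rfl⟩ := QuotientGroup.mk_surjective x
  obtain ⟨g', rfl⟩ := QuotientGroup.mk_surjective y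
  rw [ker_mk]
  obtain ⟨m, hm, hg⟩ := cls_spec (P := P) (g⁻¹ * g')
  set w := cls P (g⁻¹ * g')
  have hcell : cell P (m : G) = cell P ((w.out : P.N) : G) :=
    Eqv.cell_eq ((mk_eq_iff m w.out).mp (hm.trans (QuotientGroup.out_eq' w).symm))
  rw [hcell] at hg
  obtain ⟨b, hb, c, hc, e⟩ := (mem_cell P).1 hg
  rw [← h (g * b)⁻¹ (g : G ⧸ P.B) (g' : G ⧸ P.B), MulAction.Quotient.smul_mk,
    MulAction.Quotient.smul_mk]
  congr 1
  · rw [QuotientGroup.eq]
    simpa [smul_eq_mul, mul_assoc] using hb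
  · rw [QuotientGroup.eq]
    have : ((g * b)⁻¹ • g')⁻¹ * ((w.out : P.N) : G) = c⁻¹ := by
      rw [smul_eq_mul, show (g * b)⁻¹ * g' = b⁻¹ * (g⁻¹ * g') by group, e]
      group
    rw [this]; exact inv_mem hc

variable [Finite G]

noncomputable instance : Fintype (G ⧸ P.B) := Fintype.ofFinite _
noncomputable instance : Fintype (Weyl P) := Fintype.ofFinite _
noncomputable instance : DecidableEq (Weyl P) := Classical.decEq _

variable (P)

/-- The number of cosets of `B` in a cell. -/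
noncomputable def cellSize (w : Weyl P) : ℕ :=
  (Finset.univ.filter fun y : G ⧸ P.B => cls P y.out = w).card

/-- The indicator of the rank-one parabolic subgroup of `s`. -/
noncomputable def ind (s : G) (hs : s ∈ P.S) : Weyl P → ℝ :=
  fun w => if w = 1 ∨ w = gen P s hs then 1 else 0

/-- The action of `1 + T_s`. -/
noncomputable def lop (s : G) (hs : s ∈ P.S) (f : Weyl P → ℝ) : Weyl P → ℝ := fun w =>
  if wlen w < wlen (gen P s hs * w) then f w + cellSize P (gen P s hs) * f (gen P s hs * w)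
  else cellSize P (gen P s hs) * f w + f (gen P s hs * w)

variable {P}

lemma cls_out (g : G) : cls P (g : G ⧸ P.B).out = cls P g := by
  obtain ⟨b, hb⟩ := QuotientGroup.mk_out_eq_mul P.B g
  rw [hb, ← one_mul g, cls_mul_B (one_mem _) b.2, one_mul]

lemma ker_mul_invariant (f f' : Weyl P → ℝ) (k : G) (x y : G ⧸ P.B) :
    (ker P f * ker P f') (k • x) (k • y) = (ker P f * ker P f') x y := by
  rw [Matrix.mul_apply, Matrix.mul_apply]
  refine (Fintype.sum_equiv (MulAction.toPerm k) _ _ fun z => ?_).symm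
  show _ = ker P f (k • x) (k • z) * ker P f' (k • z) (k • y)
  rw [ker_smul, ker_smul]

lemma ker_ind_mul (f : Weyl P → ℝ) :
    ker P (ind P s hs) * ker P f = ker P (lop P s hs f) := by
  classical
  obtain ⟨φ, hφ⟩ := exists_ker (ker_mul_invariant (P := P) (ind P s hs) f)
  rw [hφ]
  congr 1
  funext w
  obtain ⟨g, hgw⟩ := cls_surjective w
  have h0 : (ker P (ind P s hs) * ker P f) ((1 : G) : G ⧸ P.B) g = φ w := by
    rw [hφ, ker_one_left, hgw]
  rw [← h0, Matrix.mul_apply]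
  set σ := gen P s hs with hσ
  set Z : Finset (G ⧸ P.B) := Finset.univ.filter fun z => cls P z.out = σ with hZ
  have hterm : ∀ z : G ⧸ P.B, ker P (ind P s hs) ((1 : G) : G ⧸ P.B) z * ker P f z (g : G ⧸ P.B) =
      (if z = ((1 : G) : G ⧸ P.B) then f w else 0) +
        (if z ∈ Z then f (cls P (z.out⁻¹ * g)) else 0) := by
    intro z
    have hz : (z.out : G ⧸ P.B) = z := QuotientGroup.out_eq' z
    conv_lhs => rw [← hz, ker_one_left, ker_mk]
    simp only [hZ, Finset.mem_filter, Finset.mem_univ, true_and, ind, ← hσ]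
    by_cases h1 : cls P z.out = 1
    · have hz1 : z = ((1 : G) : G ⧸ P.B) := by
        rw [← hz, QuotientGroup.eq]; simpa using inv_mem (cls_eq_one.mp h1)
      have h2 : ¬ cls P z.out = σ := fun e => gen_ne_one hs (e.symm.trans h1)
      rw [if_pos (Or.inl h1), if_pos hz1, if_neg h2, one_mul, add_zero]
      congr 1
      rw [← hgw, ← mul_one (z.out⁻¹ * g), cls_mul_B (inv_mem (cls_eq_one.mp h1)) (one_mem _)]
    · have hz1 : z ≠ ((1 : G) : G ⧸ P.B) := fun e => h1 (cls_eq_one.mpr (by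
        have := hz.trans e
        rw [QuotientGroup.eq] at this
        simpa using inv_mem this))
      by_cases h2 : cls P z.out = σ
      · rw [if_pos (Or.inr h2), if_neg hz1, if_pos h2, one_mul, zero_add]
      · rw [if_neg (by tauto), if_neg hz1, if_neg h2, zero_mul, add_zero]
  rw [Finset.sum_congr rfl fun z _ => hterm z, Finset.sum_add_distrib, Finset.sum_ite_eq',
    if_pos (Finset.mem_univ _), Finset.sum_ite_mem, Finset.univ_inter]
  have hZinv : ∀ z ∈ Z, cls P z.out⁻¹ = σ := fun z hz => by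
    rw [cls_inv, (Finset.mem_filter.mp hz).2, gen_inv]
  unfold lop
  split_ifs with hup
  · rw [Finset.sum_congr rfl fun z hz => by rw [cls_mul_up hs (hZinv z hz) hgw hup],
      Finset.sum_const, nsmul_eq_mul]
    rfl
  · have hup' : wlen (σ * w) < wlen (σ * (σ * w)) := by
      rw [← mul_assoc, gen_mul_self, one_mul]
      exact lt_of_le_of_ne (not_lt.mp hup) (wlen_gen_ne hs w)
    set w' := σ * w with hw'
    have hww : σ * w' = w := by rw [hw', ← mul_assoc, gen_mul_self, one_mul]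
    obtain ⟨n, hn⟩ := QuotientGroup.mk_surjective w'
    obtain ⟨m, hm, hgm⟩ := cls_spec (P := P) g
    have hcell : Eqv P (m : G) ((⟨s, P.subset hs⟩ * n : P.N) : G) := by
      rw [← mk_eq_iff, hm, hgw, QuotientGroup.mk_mul, hn, ← hww]; rfl
    rw [hcell.cell_eq] at hgm
    obtain ⟨b, hb, c, hc, e⟩ := (mem_cell P).1 hgm
    have hb' : cls P (b * s) = σ := by
      rw [← mul_one (b * s), cls_mul_B hb (one_mem _)]
      exact cls_coe (⟨s, P.subset hs⟩ : P.N)
    have hz0 : ((b * s : G) : G ⧸ P.B) ∈ Z := Finset.mem_filter.mpr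
      ⟨Finset.mem_univ _, by rw [cls_out, hb']⟩
    have hval0 : cls P (((b * s : G) : G ⧸ P.B).out⁻¹ * g) = w' := by
      obtain ⟨d, hd⟩ := QuotientGroup.mk_out_eq_mul P.B (b * s)
      rw [hd, e, show (b * s * (d : G))⁻¹ * (b * ((⟨s, P.subset hs⟩ * n : P.N) : G) * c) =
        (d : G)⁻¹ * (n : G) * c by simp only [Subgroup.coe_mul]; group,
        cls_mul_B (inv_mem d.2) hc, cls_coe, hn]
    have hrest : ∀ z ∈ Z.erase ((b * s : G) : G ⧸ P.B), f (cls P (z.out⁻¹ * g)) = f w := by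
      intro z hz
      obtain ⟨hne, hzZ⟩ := Finset.mem_erase.mp hz
      congr 1
      set z₀ := ((b * s : G) : G ⧸ P.B)
      have hc1 : cls P (z.out⁻¹ * z₀.out) = σ := by
        refine (cls_gen_gen hs (hZinv z hzZ) (Finset.mem_filter.mp hz0).2).resolve_left fun h => hne ?_
        rw [← QuotientGroup.out_eq' z, ← QuotientGroup.out_eq' z₀, QuotientGroup.eq]
        exact cls_eq_one.mp h
      rw [show z.out⁻¹ * g = z.out⁻¹ * z₀.out * (z₀.out⁻¹ * g) by group,
        cls_mul_up hs hc1 hval0 hup', hww]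
    rw [← Finset.add_sum_erase _ _ hz0, hval0, Finset.sum_congr rfl hrest, Finset.sum_const,
      nsmul_eq_mul, Finset.card_erase_of_mem hz0, Nat.cast_sub (Finset.card_pos.mpr ⟨_, hz0⟩)]
    show f w + (f w' + ((cellSize P σ : ℝ) - ((1 : ℕ) : ℝ)) * f w) = _
    push_cast
    ring

lemma row_sum (f : Weyl P → ℝ) (x : G ⧸ P.B) :
    ∑ y, ker P f x y = ∑ w, (cellSize P w : ℝ) * f w := by
  classical
  obtain ⟨g, rfl⟩ := QuotientGroup.mk_surjective x
  rw [← Fintype.sum_equiv (MulAction.toPerm g) (fun y => ker P f ((1 : G) : G ⧸ P.B) y)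
    (fun y => ker P f (g : G ⧸ P.B) y) (fun y => by
      have := ker_smul f g ((1 : G) : G ⧸ P.B) y
      rw [MulAction.Quotient.smul_mk, smul_eq_mul, mul_one] at this
      exact this.symm)]
  rw [← Finset.sum_fiberwise Finset.univ (fun y : G ⧸ P.B => cls P y.out)]
  refine Finset.sum_congr rfl fun w _ => ?_
  rw [cellSize, ← nsmul_eq_mul, ← Finset.sum_const]
  refine Finset.sum_congr rfl fun y hy => ?_
  conv_lhs => rw [← QuotientGroup.out_eq' y, ker_one_left, (Finset.mem_filter.mp hy).2]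

lemma sq_sum {f : Weyl P → ℝ} (hf : ∀ w, f w⁻¹ = f w) (x : G ⧸ P.B) :
    (ker P f * ker P f) x x = ∑ w, (cellSize P w : ℝ) * f w ^ 2 := by
  rw [Matrix.mul_apply, ← row_sum (fun w => f w ^ 2) x]
  refine Finset.sum_congr rfl fun y _ => ?_
  show f (cls P _) * f (cls P _) = f (cls P _) ^ 2
  rw [pow_two]
  congr 1
  rw [← hf, ← cls_inv, mul_inv_rev, inv_inv]

lemma cellSize_one : cellSize P 1 = 1 := by
  classical
  refine Finset.card_eq_one.mpr ⟨((1 : G) : G ⧸ P.B), Finset.ext fun y => ?_⟩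
  rw [Finset.mem_filter, Finset.mem_singleton, cls_eq_one]
  refine ⟨fun h => ?_, fun h => ⟨Finset.mem_univ _, ?_⟩⟩
  · rw [← QuotientGroup.out_eq' y, QuotientGroup.eq]; simpa using inv_mem h.2
  · subst h
    obtain ⟨b, hb⟩ := QuotientGroup.mk_out_eq_mul P.B (1 : G)
    rw [hb, one_mul]; exact b.2

lemma cellSize_gen_mul {w : Weyl P} (hup : wlen w < wlen (gen P s hs * w)) :
    cellSize P (gen P s hs * w) = cellSize P (gen P s hs) * cellSize P w := by
  classical
  have h1 : ∀ f : Weyl P → ℝ, ∑ v, (cellSize P v : ℝ) * lop P s hs f v =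
      (1 + cellSize P (gen P s hs)) * ∑ v, (cellSize P v : ℝ) * f v := by
    intro f
    have x : G ⧸ P.B := ((1 : G) : G ⧸ P.B)
    rw [← row_sum (lop P s hs f) x, ← ker_ind_mul hs f]
    simp only [Matrix.mul_apply]
    rw [Finset.sum_comm]
    simp only [← Finset.mul_sum, row_sum, ← Finset.sum_mul]
    congr 1
    rw [Finset.sum_eq_add 1 (gen P s hs) (gen_ne_one hs).symm
      (fun c _ hc => by simp [ind, hc.1, hc.2]) (by simp) (by simp)]
    simp [ind, cellSize_one]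
  have h2 := h1 fun v => if v = w then 1 else 0
  have hne : gen P s hs * w ≠ w := fun e => gen_ne_one hs (mul_eq_right.mp e)
  have hsw : gen P s hs * (gen P s hs * w) = w := by
    rw [← mul_assoc, gen_mul_self, one_mul]
  have hval : ∀ v, lop P s hs (fun v => if v = w then 1 else 0) v =
      if v = w ∨ v = gen P s hs * w then 1 else 0 := by
    intro v
    unfold lop
    by_cases hv : v = w
    · subst hv; rw [if_pos hup]; simp [hne]
    by_cases hv' : v = gen P s hs * w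
    · subst hv'
      rw [if_neg (by rw [hsw]; omega)]
      simp [hne, hsw]
    have : gen P s hs * v ≠ w := fun e => hv' (by rw [← e, ← mul_assoc, gen_mul_self, one_mul])
    split_ifs <;> simp_all
  simp only [hval, mul_ite, mul_one, mul_zero] at h2
  rw [Finset.sum_ite_eq', if_pos (Finset.mem_univ _), ← Finset.sum_filter] at h2
  rw [show (Finset.univ.filter fun v => v = w ∨ v = gen P s hs * w) = {w, gen P s hs * w} by
    ext v; simp, Finset.sum_pair hne.symm] at h2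
  have h3 : (cellSize P (gen P s hs * w) : ℝ) = cellSize P (gen P s hs) * cellSize P w := by
    linarith
  exact_mod_cast h3

lemma two_le_cellSize : 2 ≤ cellSize P (gen P s hs) := by
  classical
  obtain ⟨b, hb, hbs⟩ := exists_conj_mem_cell P hs
  have h1 : cls P s = gen P s hs := cls_coe (⟨s, P.subset hs⟩ : P.N)
  have h2 : cls P (b * s) = gen P s hs := by
    rw [← mul_one (b * s), cls_mul_B hb (one_mem _), h1]
  refine Finset.one_lt_card.mpr ⟨((s : G) : G ⧸ P.B), ?_, ((b * s : G) : G ⧸ P.B), ?_, ?_⟩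
  · exact Finset.mem_filter.mpr ⟨Finset.mem_univ _, by rw [cls_out, h1]⟩
  · exact Finset.mem_filter.mpr ⟨Finset.mem_univ _, by rw [cls_out, h2]⟩
  · intro e
    rw [QuotientGroup.eq] at e
    have hsb : s * b * s ∈ P.B := by
      have := mul_mem (P.sq_mem s hs) e
      rwa [show s * s * (s⁻¹ * (b * s)) = s * b * s by group] at this
    have hc := cls_eq_one.mpr hsb
    rw [cls_of_mem (n := ⟨s, P.subset hs⟩) hbs] at hc
    exact gen_ne_one hs hc

end Cfsg.Agent.H38.FH
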