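import Mathlib

/-! A finite group generated by two distinct involutions. -/

set_option autoImplicit false

namespace Cfsg.Agent.H38.FH

variable {W : Type*} [Group W]

/-- The alternating word `a b a ⋯` of length `k`. -/
def alt : W → W → ℕ → W
  | _, _, 0 => 1
  | a, b, k + 1 => a * alt b a k

@[simp] lemma alt_zero (a b : W) : alt a b 0 = 1 := rfl
lemma alt_succ (a b : W) (k : ℕ) : alt a b (k + 1) = a * alt b a k := rfl
@[simp] lemma alt_one (a b : W) : alt a b 1 = a := by simp [alt]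

/-- Two distinct non-trivial involutions generating the group. -/
structure IsPair (a b : W) : Prop where
  sq_a : a * a = 1
  sq_b : b * b = 1
  ne_a : a ≠ 1
  ne_b : b ≠ 1
  ne : a ≠ b
  gen : Subgroup.closure {a, b} = ⊤

variable {a b : W}

lemma IsPair.swap (h : IsPair a b) : IsPair b a :=
  ⟨h.sq_b, h.sq_a, h.ne_b, h.ne_a, h.ne.symm, by rw [Set.pair_comm]; exact h.gen⟩

lemma IsPair.mul_alt_succ (h : IsPair a b) (k : ℕ) : a * alt a b (k + 1) = alt b a k := by
  rw [alt_succ, ← mul_assoc, h.sq_a, one_mul]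

lemma alt_two_mul : ∀ (i : ℕ) (a b : W), alt a b (2 * i) = (a * b) ^ i
  | 0, a, b => by simp
  | i + 1, a, b => by
    rw [show 2 * (i + 1) = 2 * i + 1 + 1 by omega, alt_succ, alt_succ, alt_two_mul i a b, pow_succ',
      mul_assoc]

lemma alt_two_mul_add_one (i : ℕ) (a b : W) : alt a b (2 * i + 1) = (a * b) ^ i * a := by
  induction i with
  | zero => simp
  | succ i ih =>
    rw [show 2 * (i + 1) + 1 = 2 * i + 1 + 1 + 1 by omega, alt_succ, alt_succ, ih, pow_succ']
    simp [mul_assoc]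

lemma IsPair.ba_eq (h : IsPair a b) : b * a = (a * b)⁻¹ := by
  rw [mul_inv_rev, inv_eq_of_mul_eq_one_right h.sq_a, inv_eq_of_mul_eq_one_right h.sq_b]

lemma IsPair.conj_a (h : IsPair a b) : a * (a * b) * a⁻¹ = (a * b)⁻¹ := by
  rw [← h.ba_eq, inv_eq_of_mul_eq_one_right h.sq_a, ← mul_assoc, h.sq_a, one_mul]

lemma IsPair.refl_not_rot (h : IsPair a b) (i : ℤ) : (a * b) ^ i ≠ a := by
  intro e
  set r := a * b with hr
  have h1 : a * r * a⁻¹ = r := by
    rw [← e]
    group
  rw [h.conj_a] at h1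
  have h2 : r * r = 1 := inv_eq_iff_mul_eq_one.mp h1
  have hr2 : r ^ (2 : ℤ) = 1 := by
    rw [show (2 : ℤ) = 1 + 1 from rfl, zpow_add, zpow_one]; exact h2
  rcases Int.even_or_odd i with ⟨j, hj⟩ | ⟨j, hj⟩
  · apply h.ne_a
    rw [← e, hj, ← two_mul, zpow_mul, hr2, one_zpow]
  · apply h.ne_b
    have h3 : r = a := by
      rw [← e, hj, zpow_add, zpow_mul, hr2, one_zpow, one_mul, zpow_one]
    exact mul_eq_left.mp h3

lemma IsPair.forms (h : IsPair a b) [Finite W] (w : W) :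
    ∃ i : ℕ, w = (a * b) ^ i ∨ w = (a * b) ^ i * a := by
  set r := a * b with hr
  have hconj : a * r * a⁻¹ = r⁻¹ := h.conj_a
  have key : ∀ i : ℤ, a * r ^ i = r ^ (-i) * a := fun i => by
    rw [← mul_inv_eq_iff_eq_mul, ← conj_zpow, hconj, inv_zpow, zpow_neg]
  have hz : ∀ w : W, ∃ i : ℤ, w = r ^ i ∨ w = r ^ i * a := by
    intro w
    have hw : w ∈ Subgroup.closure ({a, b} : Set W) := h.gen ▸ Subgroup.mem_top w
    induction hw using Subgroup.closure_induction with
    | mem x hx =>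
      rcases hx with rfl | rfl
      · exact ⟨0, Or.inr (by simp)⟩
      · refine ⟨-1, Or.inr ?_⟩
        rw [zpow_neg_one, hr, ← h.ba_eq, mul_assoc, h.sq_a, mul_one]
    | one => exact ⟨0, Or.inl (by simp)⟩
    | mul x y _ _ hx hy =>
      obtain ⟨i, rfl | rfl⟩ := hx <;> obtain ⟨j, rfl | rfl⟩ := hy
      · exact ⟨i + j, Or.inl (zpow_add r i j).symm⟩
      · exact ⟨i + j, Or.inr (by rw [zpow_add, mul_assoc])⟩
      · exact ⟨i + -j, Or.inr (by rw [zpow_add, mul_assoc, key, mul_assoc])⟩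
      · refine ⟨i + -j, Or.inl ?_⟩
        rw [zpow_add, mul_assoc, ← mul_assoc a, key, mul_assoc, h.sq_a, mul_one]
    | inv x _ hx =>
      obtain ⟨i, rfl | rfl⟩ := hx
      · exact ⟨-i, Or.inl (zpow_neg r i).symm⟩
      · refine ⟨i, Or.inr ?_⟩
        rw [mul_inv_rev, inv_eq_of_mul_eq_one_right h.sq_a, ← zpow_neg, key, neg_neg]
  obtain ⟨i, hi⟩ := hz w
  obtain ⟨n, hn⟩ := (mem_powers_iff_mem_zpowers (x := r) (y := r ^ i)).mpr ⟨i, rfl⟩
  exact ⟨n, by rwa [show r ^ i = r ^ n from hn.symm] at hi⟩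

variable [Finite W]

lemma IsPair.one_lt_order (h : IsPair a b) : 2 ≤ orderOf (a * b) := by
  have h1 : orderOf (a * b) ≠ 1 := fun e => h.ne (by
    rw [orderOf_eq_one_iff, mul_eq_one_iff_eq_inv, inv_eq_of_mul_eq_one_right h.sq_b] at e
    exact e)
  have := orderOf_pos (a * b)
  omega

lemma IsPair.order_swap (h : IsPair a b) : orderOf (b * a) = orderOf (a * b) := by
  rw [h.ba_eq, orderOf_inv]

lemma pow_add_eq_one {r : W} {i j : ℕ} (e : r ^ i = r⁻¹ ^ j) : r ^ (i + j) = 1 := by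
  rw [pow_add, e, inv_pow, inv_mul_cancel]

/-- An alternating word of length at most the order of `a b` is not a shorter one. -/
lemma IsPair.alt_ne (h : IsPair a b) {k j : ℕ} (hk : k ≤ orderOf (a * b)) (hj : j < k) :
    alt a b k ≠ alt a b j ∧ alt a b k ≠ alt b a j := by
  set r := a * b with hr
  have hinj : ∀ {i l : ℕ}, i < orderOf r → l < orderOf r → r ^ i = r ^ l → i = l :=
    fun hi hl e => pow_injOn_Iio_orderOf hi hl e
  have hne : ∀ (i : ℕ) (l : ℤ), r ^ i ≠ r ^ l * a := fun i l e =>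
    h.refl_not_rot (-l + i) (by
      rw [← hr, zpow_add, zpow_natCast, e, ← mul_assoc, ← zpow_add, neg_add_cancel, zpow_zero,
        one_mul])
  have hzero : ∀ {i : ℕ}, i ≠ 0 → i < orderOf r → r ^ i ≠ 1 := fun hi0 hi e =>
    hi0 (hinj hi (orderOf_pos r) (by rw [e, pow_zero]))
  have hba : b * a = r⁻¹ := h.ba_eq
  have hodd : ∀ l : ℕ, alt b a (2 * l + 1) = r⁻¹ ^ (l + 1) * a := fun l => by
    rw [alt_two_mul_add_one, hba, pow_succ, mul_assoc]
    congr 1
    rw [← hba, mul_assoc, h.sq_a, mul_one]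
  obtain ⟨i, hi⟩ : ∃ i, k = 2 * i ∨ k = 2 * i + 1 := ⟨k / 2, by omega⟩
  obtain ⟨l, hl⟩ : ∃ l, j = 2 * l ∨ j = 2 * l + 1 := ⟨j / 2, by omega⟩
  rcases hi with rfl | rfl <;> rcases hl with rfl | rfl
  · rw [alt_two_mul, alt_two_mul, alt_two_mul, hba]
    refine ⟨fun e => ?_, fun e => ?_⟩
    · have := hinj (by omega) (by omega) e
      omega
    · exact hzero (by omega) (by omega) (pow_add_eq_one e)
  · rw [alt_two_mul, alt_two_mul_add_one, hodd]
    refine ⟨fun e => hne i l (by rwa [zpow_natCast]), fun e => hne i (-(l + 1 : ℕ)) ?_⟩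
    rwa [zpow_neg, zpow_natCast, ← inv_pow]
  · rw [alt_two_mul, alt_two_mul_add_one, alt_two_mul, hba]
    refine ⟨fun e => hne l i (by rw [zpow_natCast]; exact e.symm),
      fun e => h.refl_not_rot (-(i + l : ℕ)) ?_⟩
    rw [← hr, zpow_neg, zpow_natCast, pow_add, mul_inv_rev, ← inv_pow, ← inv_pow]
    have e2 : a = r⁻¹ ^ i * r⁻¹ ^ l := by rw [← e, inv_pow, inv_mul_cancel_left]
    rw [e2, ← pow_add, ← pow_add, Nat.add_comm]
  · rw [alt_two_mul_add_one, alt_two_mul_add_one, hodd]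
    refine ⟨fun e => ?_, fun e => ?_⟩
    · have := hinj (by omega) (by omega) (mul_right_cancel e)
      omega
    · exact hzero (by omega) (by omega) (pow_add_eq_one (mul_right_cancel e))

/-- A product of letters is an alternating word that is not longer. -/
lemma IsPair.reduce (h : IsPair a b) : ∀ l : List W, (∀ x ∈ l, x = a ∨ x = b) →
    ∃ j ≤ l.length, l.prod = alt a b j ∨ l.prod = alt b a j
  | [], _ => ⟨0, le_rfl, Or.inl rfl⟩
  | x :: l, hl => by
    obtain ⟨j, hj, hp⟩ := h.reduce l fun y hy => hl y (List.mem_cons_of_mem x hy)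
    rw [List.prod_cons, List.length_cons]
    rcases hl x List.mem_cons_self with rfl | rfl <;> rcases hp with hp | hp <;> rw [hp]
    · cases j with
      | zero => exact ⟨1, by omega, Or.inl (by simp)⟩
      | succ j => exact ⟨j, by omega, Or.inr (h.mul_alt_succ j)⟩
    · exact ⟨j + 1, by omega, Or.inl (alt_succ _ _ j).symm⟩
    · exact ⟨j + 1, by omega, Or.inr (alt_succ _ _ j).symm⟩
    · cases j with
      | zero => exact ⟨1, by omega, Or.inr (by simp)⟩
      | succ j => exact ⟨j, by omega, Or.inl (h.swap.mul_alt_succ j)⟩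

lemma IsPair.card_eq (h : IsPair a b) : Nat.card W = 2 * orderOf (a * b) := by
  set r := a * b with hr
  have e : (Fin (orderOf r) × Fin 2) ≃ W := by
    refine Equiv.ofBijective (fun p => r ^ (p.1 : ℕ) * a ^ (p.2 : ℕ)) ⟨?_, fun w => ?_⟩
    · rintro ⟨i, e⟩ ⟨j, f⟩ (he : r ^ (i : ℕ) * a ^ (e : ℕ) = r ^ (j : ℕ) * a ^ (f : ℕ))
      have hc : r ^ (-(j : ℤ) + i) * a ^ (e : ℕ) = a ^ (f : ℕ) := by
        rw [zpow_add, zpow_natCast, mul_assoc, he, ← mul_assoc, zpow_neg, zpow_natCast,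
          inv_mul_cancel, one_mul]
      fin_cases e <;> fin_cases f <;> simp at he hc ⊢
      · exact Fin.ext (pow_injOn_Iio_orderOf i.2 j.2 he)
      · exact absurd hc (h.refl_not_rot _)
      · refine absurd ?_ (h.refl_not_rot (-(-(j : ℤ) + i)))
        rw [← hr, zpow_neg, ← eq_inv_of_mul_eq_one_right hc]
      · exact Fin.ext (pow_injOn_Iio_orderOf i.2 j.2 he)
    · obtain ⟨i, hi⟩ := h.forms w
      rw [← hr] at hi
      rw [← pow_mod_orderOf r i] at hi
      rcases hi with rfl | rfl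
      · exact ⟨(⟨i % orderOf r, Nat.mod_lt _ (orderOf_pos r)⟩, 0), by simp⟩
      · exact ⟨(⟨i % orderOf r, Nat.mod_lt _ (orderOf_pos r)⟩, 1), by simp⟩
  rw [← Nat.card_congr e, Nat.card_prod, Nat.card_fin, Nat.card_fin, mul_comm]

lemma IsPair.alt_top (h : IsPair a b) :
    alt a b (orderOf (a * b)) = alt b a (orderOf (a * b)) := by
  have h1 := pow_orderOf_eq_one (a * b)
  set m := orderOf (a * b)
  rcases Nat.even_or_odd m with ⟨i, hi⟩ | ⟨i, hi⟩
  · rw [hi, ← two_mul, alt_two_mul, alt_two_mul, h.ba_eq, inv_pow, eq_inv_iff_mul_eq_one,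
      ← pow_add, ← hi, h1]
  · rw [hi, alt_two_mul_add_one, alt_two_mul_add_one, h.ba_eq]
    have hb : b = a * (a * b) := by rw [← mul_assoc, h.sq_a, one_mul]
    have h3 : a * (a * b) = (a * b)⁻¹ * a := by
      have := h.conj_a
      rwa [mul_inv_eq_iff_eq_mul] at this
    rw [show (a * b)⁻¹ ^ i * b = (a * b)⁻¹ ^ i * (a * (a * b)) by rw [← hb], h3, ← mul_assoc,
      ← pow_succ, inv_pow]
    congr 1
    rw [eq_inv_iff_mul_eq_one, ← pow_add, show i + (i + 1) = m by omega, h1]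

lemma IsPair.alt_inv (h : IsPair a b) (k : ℕ) :
    (Odd k → (alt a b k)⁻¹ = alt a b k) ∧ (Even k → (alt a b k)⁻¹ = alt b a k) := by
  refine ⟨fun ⟨i, hi⟩ => ?_, fun ⟨i, hi⟩ => ?_⟩
  · rw [hi, alt_two_mul_add_one, mul_inv_rev, ← inv_pow]
    have h2 := conj_pow (i := i) (a := a) (b := a * b)
    rw [h.conj_a] at h2
    rw [h2, inv_eq_of_mul_eq_one_right h.sq_a, ← mul_assoc, ← mul_assoc, h.sq_a, one_mul]
  · rw [hi, ← two_mul, alt_two_mul, alt_two_mul, h.ba_eq, inv_pow]

/-- The elements `alt b a k` and `a * alt b a k`, `k < m`, exhaust the group. -/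
lemma IsPair.enum_bijective (h : IsPair a b) :
    Function.Bijective (fun p : Fin (orderOf (a * b)) × Fin 2 =>
      if p.2 = 0 then alt b a p.1 else alt a b (p.1 + 1)) := by
  refine (Nat.bijective_iff_injective_and_card _).mpr ⟨?_, by
    rw [Nat.card_prod, Nat.card_fin, Nat.card_fin, h.card_eq, mul_comm]⟩
  rintro ⟨⟨k, hk⟩, e⟩ ⟨⟨j, hj⟩, f⟩ he
  have hinj : ∀ {k j : ℕ}, k ≤ orderOf (a * b) → j ≤ orderOf (a * b) →
      alt b a k = alt b a j → k = j := fun {k j} hk hj e => by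
    rcases lt_trichotomy k j with hlt | heq | hlt
    · exact absurd e.symm (h.swap.alt_ne (h.order_swap ▸ hj) hlt).1
    · exact heq
    · exact absurd e (h.swap.alt_ne (h.order_swap ▸ hk) hlt).1
  have hinja : ∀ {k j : ℕ}, k ≤ orderOf (a * b) → j ≤ orderOf (a * b) →
      alt a b k = alt a b j → k = j := fun {k j} hk hj e => by
    rcases lt_trichotomy k j with hlt | heq | hlt
    · exact absurd e.symm (h.alt_ne hj hlt).1
    · exact heq
    · exact absurd e (h.alt_ne hk hlt).1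
  have hmix : ∀ {k j : ℕ}, k < orderOf (a * b) → j < orderOf (a * b) →
      alt b a k ≠ alt a b (j + 1) := fun {k j} hk hj e => by
    rcases le_or_gt k j with hle | hlt
    · exact (h.alt_ne (k := j + 1) hj (Nat.lt_succ_of_le hle)).2 e.symm
    · rcases Nat.lt_or_ge (j + 1) k with h1 | h1
      · exact (h.swap.alt_ne (h.order_swap.symm ▸ hk.le) h1).2 e
      · obtain rfl : k = j + 1 := by omega
        have h2 : alt a b (j + 1 + 1) = alt b a j := by
          rw [alt_succ, e, h.mul_alt_succ]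
        exact (h.alt_ne (k := j + 1 + 1) hk (j := j) (by omega)).2 h2
  fin_cases e <;> fin_cases f <;> simp at he ⊢
  · exact hinj hk.le hj.le he
  · exact absurd he (hmix hk hj)
  · exact absurd he.symm (hmix hj hk)
  · exact Nat.succ_injective (hinja hk hj he)

end Cfsg.Agent.H38.FH
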