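import Mathlib

/-! The number theory of the Feit–Higman theorem. -/

set_option autoImplicit false

namespace Cfsg.Agent.H38.FH

open Real Polynomial

lemma totient_le_two {h : ℕ} (h0 : 0 < h) (hφ : h.totient ≤ 2) : h ∣ 12 := by
  refine (Nat.dvd_iff_prime_pow_dvd_dvd 12 h).mpr fun p k hp hpk => ?_
  have h1 : (p ^ k).totient ≤ 2 :=
    (Nat.le_of_dvd (Nat.totient_pos.mpr h0) (Nat.totient_dvd_of_dvd hpk)).trans hφ
  rcases Nat.eq_zero_or_pos k with rfl | hk
  · simp
  rw [Nat.totient_prime_pow hp hk] at h1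
  have h2 := hp.two_le
  have hp3 : p ≤ 3 := by
    have : 1 ≤ p ^ (k - 1) := Nat.one_le_pow _ _ hp.pos
    have : p - 1 ≤ 2 := le_trans (Nat.le_mul_of_pos_left _ this) h1
    omega
  interval_cases p
  · have : k ≤ 2 := by
      by_contra hk2
      have : 2 ^ 2 ≤ 2 ^ (k - 1) := Nat.pow_le_pow_right two_pos (by omega)
      omega
    interval_cases k <;> decide
  · have : k ≤ 1 := by
      by_contra hk2
      have : 3 ^ 1 ≤ 3 ^ (k - 1) := Nat.pow_le_pow_right (by omega) (by omega)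
      omega
    interval_cases k; decide

lemma odd_totient_le_four {m : ℕ} (hm : Odd m) (hm3 : 3 ≤ m) (hφ : m.totient ≤ 4) :
    m = 3 ∨ m = 5 := by
  have hdvd : m ∣ 15 := by
    refine (Nat.dvd_iff_prime_pow_dvd_dvd 15 m).mpr fun p k hp hpk => ?_
    have h1 : (p ^ k).totient ≤ 4 :=
      (Nat.le_of_dvd (Nat.totient_pos.mpr (by omega)) (Nat.totient_dvd_of_dvd hpk)).trans hφ
    rcases Nat.eq_zero_or_pos k with rfl | hk
    · simp
    have hp2 : p ≠ 2 := fun e => by
      subst e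
      exact (Nat.not_even_iff_odd.mpr hm)
        (even_iff_two_dvd.mpr ((dvd_pow_self 2 (by omega)).trans hpk))
    rw [Nat.totient_prime_pow hp hk] at h1
    have h2 := hp.two_le
    have hp5 : p ≤ 5 := by
      have : 1 ≤ p ^ (k - 1) := Nat.one_le_pow _ _ hp.pos
      have : p - 1 ≤ 4 := le_trans (Nat.le_mul_of_pos_left _ this) h1
      omega
    have hk1 : k ≤ 1 := by
      by_contra hk2
      have h3 : p ^ 1 ≤ p ^ (k - 1) := Nat.pow_le_pow_right hp.pos (by omega)
      rw [pow_one] at h3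
      have : 3 * 2 ≤ p ^ (k - 1) * (p - 1) := Nat.mul_le_mul (by omega) (by omega)
      omega
    obtain rfl : k = 1 := by omega
    rw [pow_one]
    interval_cases p <;> first | omega | decide | exact absurd hp (by decide)
  have hle : m ≤ 15 := Nat.le_of_dvd (by omega) hdvd
  interval_cases m <;> first | omega | simp_all (config := { decide := true })

/-- `2 cos (2π/n)` satisfying a rational polynomial of small degree. -/
lemma totient_le_of_cos {n : ℕ} (hn : 0 < n) {c0 c1 c2 : ℚ}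
    (hne : c2 ≠ 0 ∨ c1 ≠ 0 ∨ c0 ≠ 0)
    (h : (c2 : ℝ) * (2 * cos (2 * π / n)) ^ 2 + c1 * (2 * cos (2 * π / n)) + c0 = 0) :
    n.totient ≤ 4 ∧ (c2 = 0 → n.totient ≤ 2) := by
  set ζ : ℂ := Complex.exp (2 * π * Complex.I / n) with hζ
  have hprim : IsPrimitiveRoot ζ n := Complex.isPrimitiveRoot_exp n hn.ne'
  have hζ0 : ζ ≠ 0 := Complex.exp_ne_zero _
  have hx : ((2 * cos (2 * π / n) : ℝ) : ℂ) = ζ + ζ⁻¹ := by
    rw [hζ, ← Complex.exp_neg]
    push_cast
    rw [Complex.two_cos]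
    congr 1 <;> congr 1 <;> ring
  have hC : (c2 : ℂ) * (ζ + ζ⁻¹) ^ 2 + c1 * (ζ + ζ⁻¹) + c0 = 0 := by
    rw [← hx]
    exact_mod_cast congrArg (fun z : ℝ => (z : ℂ)) h
  have hmin : (minpoly ℚ ζ).natDegree = n.totient := by
    rw [← Polynomial.cyclotomic_eq_minpoly_rat hprim hn, Polynomial.natDegree_cyclotomic]
  have hbound : ∀ (q : ℚ[X]), q ≠ 0 → aeval ζ q = 0 → n.totient ≤ q.natDegree := fun q hq hq0 =>
    hmin ▸ Polynomial.natDegree_le_of_dvd (minpoly.dvd ℚ ζ hq0) hq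
  have hlin : c2 = 0 → n.totient ≤ 2 := by
    intro h2
    set q : ℚ[X] := C c1 * X ^ 2 + C c0 * X + C c1 with hq
    have hq0 : q ≠ 0 := fun e => by
      have e0 := congrArg (fun f : ℚ[X] => f.coeff 0) e
      have e1 := congrArg (fun f : ℚ[X] => f.coeff 1) e
      simp [hq, coeff_X, coeff_X_pow] at e0 e1
      rcases hne with h' | h' | h'
      · exact h' h2
      · exact h' e0
      · exact h' e1
    refine (hbound q hq0 ?_).trans (by rw [hq]; compute_degree)
    have : aeval ζ q = ζ * ((c1 : ℂ) * (ζ + ζ⁻¹) + c0) := by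
      simp only [hq, map_add, map_mul, map_pow, aeval_C, aeval_X, eq_ratCast]
      field_simp
      ring
    rw [this]
    rw [h2] at hC
    simp only [Rat.cast_zero, zero_mul, zero_add] at hC
    rw [hC, mul_zero]
  refine ⟨?_, hlin⟩
  by_cases h2 : c2 = 0
  · have := hlin h2; omega
  set q : ℚ[X] := C c2 * X ^ 4 + C c1 * X ^ 3 + C (c0 + 2 * c2) * X ^ 2 + C c1 * X + C c2 with hq
  have hq0 : q ≠ 0 := fun e => by
    have e0 := congrArg (fun f : ℚ[X] => f.coeff 0) e
    simp [hq, coeff_X, coeff_X_pow] at e0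
    exact h2 e0
  refine (hbound q hq0 ?_).trans (by rw [hq]; compute_degree)
  have : aeval ζ q = ζ ^ 2 * ((c2 : ℂ) * (ζ + ζ⁻¹) ^ 2 + c1 * (ζ + ζ⁻¹) + c0) := by
    simp only [hq, map_add, map_mul, map_pow, map_ofNat, aeval_C, aeval_X, eq_ratCast]
    push_cast
    field_simp
    ring
  rw [this, hC, mul_zero]

/-- Feit–Higman, the arithmetic part. -/
theorem arith {p r m : ℕ} (hp : 2 ≤ p) (hr : 2 ≤ r) (hm : 2 ≤ m) (hodd : Odd m → p = r)
    (hrat : ∀ j : ℕ, 1 ≤ j → 2 * j < m → ∃ v : ℚ, ∀ x : ℝ, x = 2 * cos (2 * π * j / m) →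
      ((p : ℝ) * r + 1 - √((p : ℝ) * r) * x) * (p + r + √((p : ℝ) * r) * x) = v * (4 - x ^ 2)) :
    m ∈ ({2, 3, 4, 6, 8} : Set ℕ) := by
  simp only [Set.mem_insert_iff, Set.mem_singleton_iff]
  by_cases hm2 : m = 2
  · exact Or.inl hm2
  set R : ℝ := √((p : ℝ) * r) with hR
  have hRR : R ^ 2 = (p : ℝ) * r := Real.sq_sqrt (by positivity)
  have hp2 : (2 : ℝ) ≤ p := by exact_mod_cast hp
  have hr2 : (2 : ℝ) ≤ r := by exact_mod_cast hr
  set x := 2 * cos (2 * π / m) with hx
  have hx1 : x = 2 * cos (2 * π * (1 : ℕ) / m) := by simp [hx]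
  obtain ⟨v, hv⟩ := hrat 1 le_rfl (by omega)
  have hv1 := hv x hx1
  rcases Nat.even_or_odd m with ⟨h, hh⟩ | hodd'
  · -- even case
    obtain ⟨v', hv'⟩ := hrat (h - 1) (by omega) (by omega)
    have hneg : -x = 2 * cos (2 * π * ((h - 1 : ℕ) : ℝ) / m) := by
      have hmR : (m : ℝ) = 2 * h := by rw [hh]; push_cast; ring
      have hh0 : (h : ℝ) ≠ 0 := by exact_mod_cast (by omega : h ≠ 0)
      rw [hx, Nat.cast_sub (by omega : 1 ≤ h), Nat.cast_one,
        show 2 * π * ((h : ℝ) - 1) / m = π - 2 * π / m by rw [hmR]; field_simp,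
        Real.cos_pi_sub]
      ring
    have hv2 := hv' (-x) hneg
    have hsum : x ^ 2 * (((v : ℝ) + v') - 2 * (p * r)) =
        4 * ((v : ℝ) + v') - 2 * ((p * r + 1) * (p + r)) := by
      linear_combination hv1 + hv2 + (2 * x ^ 2) * hRR
    have hcoef : ((v + v' - 2 * (p * r) : ℚ)) ≠ 0 := by
      intro e
      have e' : ((v : ℝ) + v') - 2 * (p * r) = 0 := by exact_mod_cast e
      rw [e', mul_zero] at hsum
      nlinarith [mul_le_mul hp2 hr2 (by norm_num) (by linarith)]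
    set y := 2 * cos (2 * π / (h : ℕ)) with hy
    have hyx : x ^ 2 = 2 + y := by
      rw [hx, hy, show (2 * π / (h : ℕ) : ℝ) = 2 * (2 * π / m) by
        rw [hh]; push_cast; ring, cos_two_mul]
      ring
    have hlin := (totient_le_of_cos (n := h) (by omega) (c2 := 0)
      (c1 := v + v' - 2 * (p * r))
      (c0 := 2 * (v + v' - 2 * (p * r)) - (4 * (v + v') - 2 * ((p * r + 1) * (p + r))))
      (Or.inr (Or.inl hcoef)) (by
        rw [← hy]; push_cast
        rw [hyx] at hsum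
        linear_combination hsum)).2 rfl
    have hd := totient_le_two (by omega) hlin
    have hle : h ≤ 12 := Nat.le_of_dvd (by norm_num) hd
    by_cases h6 : h = 6
    · exfalso
      have hm12 : m = 12 := by omega
      have hx3 : x = √3 := by
        rw [hx, hm12, show (2 * π / ((12 : ℕ) : ℝ)) = π / 6 by push_cast; ring, cos_pi_div_six]
        ring
      obtain ⟨w, hw⟩ := hrat 2 (by omega) (by omega)
      have hw1 := hw 1 (by
        rw [hm12, show (2 * π * ((2 : ℕ) : ℝ) / ((12 : ℕ) : ℝ)) = π / 3 by push_cast; ring,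
          cos_pi_div_three]
        norm_num)
      rw [hx3] at hv1
      have h3 : (√3 : ℝ) ^ 2 = 3 := Real.sq_sqrt (by norm_num)
      have hb : 0 < ((p : ℝ) * r + 1 - p - r) := by nlinarith
      set A : ℝ := ((p : ℝ) * r + 1 - p - r) * R with hA
      have hA1 : A = 3 * (w : ℝ) - (p * r + 1) * (p + r) + p * r := by
        rw [hA]; linear_combination hw1 + hRR
      have hA3 : A * √3 = (v : ℝ) - (p * r + 1) * (p + r) + 3 * (p * r) := by
        rw [hA]; linear_combination hv1 + 3 * hRR + (R ^ 2 - v) * h3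
      have hA0 : A ≠ 0 := by
        rw [hA]
        exact (mul_pos hb (Real.sqrt_pos.mpr (by positivity))).ne'
      refine (Nat.Prime.irrational_sqrt Nat.prime_three)
        ⟨(v - (p * r + 1) * (p + r) + 3 * (p * r)) / (3 * w - (p * r + 1) * (p + r) + p * r), ?_⟩
      push_cast
      rw [← hA1, ← hA3, mul_div_cancel_left₀ _ hA0]
    · interval_cases h <;> simp_all (config := { decide := true })
  · -- odd case
    have hpr : (p : ℝ) = r := by rw [hodd hodd']
    have hRp : R = p := by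
      rw [hR, ← hpr, Real.sqrt_mul_self (by positivity)]
    rw [hRp, ← hpr] at hv1
    set b : ℚ := ((p : ℚ) - 1) ^ 2 with hb
    have hp1 : (2 : ℚ) ≤ p := by exact_mod_cast hp
    have hb0 : b * p ≠ 0 := by
      rw [hb]
      exact mul_ne_zero (pow_ne_zero _ (by linarith)) (by linarith)
    have hpoly : ((v - (p : ℚ) ^ 2 : ℚ) : ℝ) * x ^ 2 + ((b * p : ℚ) : ℝ) * x +
        ((((p : ℚ) ^ 2 + 1) * (2 * p) - 4 * v : ℚ) : ℝ) = 0 := by
      rw [hb]; push_cast
      linear_combination hv1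
    have hφ := totient_le_of_cos (n := m) (by omega) (Or.inr (Or.inl hb0)) hpoly
    rcases odd_totient_le_four hodd' (by omega) hφ.1 with h3 | h5
    · exact Or.inr (Or.inl h3)
    exfalso
    have hx5 : x ^ 2 + x - 1 = 0 := by
      have h1 : cos (π / 5) = (1 + √5) / 4 := Real.cos_pi_div_five
      have h5' : (√5 : ℝ) ^ 2 = 5 := Real.sq_sqrt (by norm_num)
      rw [hx, h5, show (2 * π / ((5 : ℕ) : ℝ)) = 2 * (π / 5) by push_cast; ring, cos_two_mul, h1]
      linear_combination ((√5 ^ 2 - 5 + 4 * √5) / 16 + 1 / 4) * h5' -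
        0 * h5'
    have hlin : ((b * p - (v - (p : ℚ) ^ 2) : ℚ) : ℝ) * x +
        (((((p : ℚ) ^ 2 + 1) * (2 * p) - 4 * v) + (v - (p : ℚ) ^ 2) : ℚ) : ℝ) = 0 := by
      push_cast at hpoly ⊢
      linear_combination hpoly - ((v : ℝ) - (p : ℝ) ^ 2) * hx5
    have hzero : b * p - (v - (p : ℚ) ^ 2) = 0 ∧
        (((p : ℚ) ^ 2 + 1) * (2 * p) - 4 * v) + (v - (p : ℚ) ^ 2) = 0 := by
      by_contra hcon
      have hne : b * p - (v - (p : ℚ) ^ 2) ≠ 0 ∨
          (((p : ℚ) ^ 2 + 1) * (2 * p) - 4 * v) + (v - (p : ℚ) ^ 2) ≠ 0 := by tauto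
      have h2 := (totient_le_of_cos (n := m) (c2 := 0) (by omega) (Or.inr hne) (by
        rw [Rat.cast_zero, zero_mul, zero_add]; exact hlin)).2 rfl
      rw [h5, show Nat.totient 5 = 4 from rfl] at h2
      omega
    obtain ⟨e1, e2⟩ := hzero
    have hsq : ((p : ℚ) - 1) ^ 2 * p = 0 := by
      rw [hb] at e1
      linear_combination -e2 + 3 * e1
    exact hb0 hsq

end Cfsg.Agent.H38.FH
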