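import Mathlib

/-! The spherical functions of a generalized polygon. -/

set_option autoImplicit false

namespace Cfsg.Agent.H38.FH

open Real

noncomputable def wseq (α c : ℝ) (i : ℕ) : ℝ := (sin ((i + 1) * α) + c * sin (i * α)) / sin α

variable {α c : ℝ}

lemma wseq_zero (hs : sin α ≠ 0) : wseq α c 0 = 1 := by simp [wseq, hs]

lemma wseq_one (hs : sin α ≠ 0) : wseq α c 1 = 2 * cos α + c := by
  unfold wseq
  push_cast
  rw [show ((1 : ℝ) + 1) * α = 2 * α by ring, sin_two_mul, one_mul]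
  field_simp

lemma wseq_rec (i : ℕ) : wseq α c i + wseq α c (i + 2) = 2 * cos α * wseq α c (i + 1) := by
  unfold wseq
  push_cast
  have h : ∀ y : ℝ, sin (y - α) + sin (y + α) = 2 * cos α * sin y := fun y => by
    rw [sin_add, sin_sub]; ring
  have h1 := h (((i : ℝ) + 2) * α)
  have h2 := h (((i : ℝ) + 1) * α)
  rw [show ((i : ℝ) + 2) * α - α = ((i : ℝ) + 1) * α by ring,
    show ((i : ℝ) + 2) * α + α = ((i : ℝ) + 2 + 1) * α by ring] at h1
  rw [show ((i : ℝ) + 1) * α - α = (i : ℝ) * α by ring,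
    show ((i : ℝ) + 1) * α + α = ((i : ℝ) + 2) * α by ring] at h2
  rw [← add_div, mul_div_assoc']
  congr 1
  rw [show ((i : ℝ) + 1 + 1) = (i : ℝ) + 2 by ring]
  linear_combination h1 + c * h2

lemma sum_sq (hs : sin α ≠ 0) (n : ℕ) :
    4 * sin α ^ 3 * ∑ i ∈ Finset.range n, wseq α c i ^ 2 =
      2 * n * (1 + c ^ 2 + 2 * c * cos α) * sin α -
        (sin ((2 * n + 1) * α) - sin α + c ^ 2 * (sin ((2 * n - 1) * α) + sin α) +
          2 * c * sin (2 * n * α)) := by
  induction n with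
  | zero => simp
  | succ n ih =>
    rw [Finset.sum_range_succ, mul_add, ih]
    have hw : sin α * wseq α c n = sin ((n + 1) * α) + c * sin (n * α) := by
      unfold wseq; field_simp
    have hw2 : 4 * sin α ^ 3 * wseq α c n ^ 2 =
        4 * sin α * (sin ((n + 1) * α) + c * sin (n * α)) ^ 2 := by
      rw [← hw]; ring
    rw [hw2]
    set A := ((n : ℝ) + 1) * α with hA
    set B := (n : ℝ) * α with hB
    have hd : ∀ y : ℝ, sin (y + α) - sin (y - α) = 2 * sin α * cos y := fun y => by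
      rw [sin_add, sin_sub]; ring
    have hc2 : ∀ y : ℝ, cos (2 * y) = 1 - 2 * sin y ^ 2 := fun y => by
      rw [cos_two_mul, cos_sq']; ring
    have h3 : cos (A + B) = cos α - 2 * sin A * sin B := by
      rw [cos_add, show α = A - B by rw [hA, hB]; ring, cos_sub]; ring
    have e1 := hd (2 * A)
    have e2 := hd (2 * B)
    have e3 := hd (A + B)
    rw [hc2] at e1 e2
    rw [h3] at e3
    push_cast
    rw [show (2 * ((n : ℝ) + 1) + 1) * α = 2 * A + α by rw [hA]; ring,
      show (2 * ((n : ℝ) + 1) - 1) * α = 2 * B + α by rw [hB]; ring,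
      show (2 * (n : ℝ) + 1) * α = 2 * A - α by rw [hA]; ring,
      show (2 * (n : ℝ) - 1) * α = 2 * B - α by rw [hB]; ring,
      show 2 * ((n : ℝ) + 1) * α = A + B + α by rw [hA, hB]; ring,
      show 2 * (n : ℝ) * α = A + B - α by rw [hA, hB]; ring]
    linear_combination e1 + c ^ 2 * e2 + 2 * c * e3

lemma sum_range_two_mul (F : ℕ → ℝ) (n : ℕ) :
    ∑ k ∈ Finset.range (2 * n), F k = ∑ i ∈ Finset.range n, (F (2 * i) + F (2 * i + 1)) := by
  induction n with
  | zero => simp
  | succ n ih =>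
    rw [show 2 * (n + 1) = 2 * n + 1 + 1 by omega, Finset.sum_range_succ, Finset.sum_range_succ,
      Finset.sum_range_succ, ih]
    ring

/-- The weight of the `k`-th alternating word starting with the second letter. -/
def qw (p r : ℝ) (k : ℕ) : ℝ := r ^ ((k + 1) / 2) * p ^ (k / 2)

/-- The spherical function attached to the `j`-th angle. -/
theorem spherical {p r : ℝ} {m h j : ℕ} (hp : 0 < p) (hr : 0 < r)
    (hm : m = 2 * h ∨ (m = 2 * h + 1 ∧ p = r)) (hj : 1 ≤ j) (hjm : 2 * j < m) :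
    ∃ (a : ℕ → ℝ) (lam : ℝ), a 0 = 1 ∧ (p + 1) * (1 + r * a 1) = lam ∧
      (∀ i, 1 ≤ i → i ≤ h → (m = 2 * h → i < h) →
        r * a i + a (i - 1) + p * a i + p * r * a (min (i + 1) h) = lam * a i) ∧
      (m = 2 * h → (p + 1) * (r * a h + a (h - 1)) = lam * a h) ∧
      (∀ x : ℝ, x = 2 * cos (2 * π * j / m) →
        (p + 1) * (∑ k ∈ Finset.range m, qw p r k * a (min ((k + 1) / 2) h) ^ 2) *
            ((4 - x ^ 2) * (p * r)) =
          m * ((p * r + 1 - √(p * r) * x) * (p + r + √(p * r) * x))) := by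
  set R := √(p * r) with hR
  have hR0 : 0 < R := Real.sqrt_pos.mpr (mul_pos hp hr)
  have hRR : R ^ 2 = p * r := Real.sq_sqrt (mul_pos hp hr).le
  set α := 2 * π * j / m with hαdef
  have hm0 : (0 : ℝ) < m := by exact_mod_cast (by omega : 0 < m)
  have hmα : (m : ℝ) * α = j * (2 * π) := by rw [hαdef]; field_simp
  have hs : sin α ≠ 0 := by
    refine (Real.sin_pos_of_pos_of_lt_pi ?_ ?_).ne'
    · rw [hαdef]
      have : (0 : ℝ) < j := by exact_mod_cast hj
      positivity
    · rw [hαdef, div_lt_iff₀ hm0]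
      have : (2 : ℝ) * j < m := by exact_mod_cast hjm
      nlinarith [Real.pi_pos]
  set x₀ := 2 * cos α with hx₀
  obtain ⟨c, hc⟩ : ∃ c, c = (p * (r - 1) - R * x₀) / ((p + 1) * R) := ⟨_, rfl⟩
  set w := wseq α c
  have hh : 1 ≤ h := by rcases hm with rfl | ⟨rfl, -⟩ <;> omega
  have hsinm : sin ((m : ℝ) * α) = 0 := by
    rw [hmα, show (j : ℝ) * (2 * π) = ((2 * j : ℕ) : ℝ) * π by push_cast; ring, sin_nat_mul_pi]
  have hcosm : cos ((m : ℝ) * α) = 1 := by rw [hmα, cos_nat_mul_two_pi]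
  have hw0 : w 0 = 1 := wseq_zero hs
  have hw1 : w 1 = x₀ + c := wseq_one hs
  have hrec : ∀ i, w i + w (i + 2) = x₀ * w (i + 1) := wseq_rec
  have hcD : c * ((p + 1) * R) = p * (r - 1) - R * x₀ := by rw [hc]; field_simp
  -- the last term in the odd case
  have hodd : m = 2 * h + 1 → p = r → w (h + 1) = R * w h ∧
      4 * sin α ^ 2 * w h ^ 2 = (1 - c) ^ 2 * (2 - x₀) := by
    intro hm1 hpr
    set S := sin ((h : ℝ) * α) with hS
    have h1 : sin (((h : ℝ) + 1) * α) = -S := by
      have e : ((h : ℝ) + 1) * α = (m : ℝ) * α - (h : ℝ) * α := by rw [hm1]; push_cast; ring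
      rw [e, sin_sub, hsinm, hcosm]; simp [hS]
    have h2 : sin (((h : ℝ) + 1 + 1) * α) = -(x₀ + 1) * S := by
      have e : sin (((h : ℝ) + 1) * α - α) + sin (((h : ℝ) + 1) * α + α) =
          x₀ * sin (((h : ℝ) + 1) * α) := by rw [sin_add, sin_sub, hx₀]; ring
      rw [show ((h : ℝ) + 1) * α - α = (h : ℝ) * α by ring,
        show ((h : ℝ) + 1) * α + α = ((h : ℝ) + 1 + 1) * α by ring, h1] at e
      linear_combination e
    have hwh : sin α * w h = -(1 - c) * S := by
      show sin α * ((sin ((h + 1) * α) + c * sin (h * α)) / sin α) = _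
      rw [h1]; field_simp; ring
    have hwh1 : sin α * w (h + 1) = -(x₀ + 1 + c) * S := by
      show sin α * ((sin (((h + 1 : ℕ) + 1) * α) + c * sin ((h + 1 : ℕ) * α)) / sin α) = _
      push_cast
      rw [h2, h1]; field_simp; ring
    have hRp : R = p := by rw [hR, ← hpr, Real.sqrt_mul_self hp.le]
    refine ⟨mul_left_cancel₀ hs ?_, ?_⟩
    · rw [hwh1, mul_left_comm, hwh]
      have : x₀ + 1 + c = R * (1 - c) := by
        apply mul_left_cancel₀ hR0.ne'
        rw [hRp] at hcD ⊢
        rw [← hpr] at hcD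
        linear_combination hcD
      rw [this]; ring
    · have h4 : 4 * S ^ 2 = 2 - x₀ := by
        have e : cos (2 * ((h : ℝ) * α)) = cos α := by
          rw [show 2 * ((h : ℝ) * α) = (m : ℝ) * α - α by rw [hm1]; push_cast; ring, cos_sub,
            hsinm, hcosm]; ring
        rw [cos_two_mul, cos_sq'] at e
        rw [hx₀, hS]; linear_combination (-2 : ℝ) * e
      calc 4 * sin α ^ 2 * w h ^ 2 = 4 * (sin α * w h) ^ 2 := by ring
        _ = (1 - c) ^ 2 * (4 * S ^ 2) := by rw [hwh]; ring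
        _ = _ := by rw [h4]
  have heven : m = 2 * h → w h ^ 2 = 1 ∧ w (h - 1) = -c * w h := by
    intro hm2
    have h0 : sin ((h : ℝ) * α) = 0 := by
      rw [show (h : ℝ) * α = (j : ℝ) * π by
        have := hmα; rw [hm2] at this; push_cast at this; linarith, sin_nat_mul_pi]
    have hC : cos ((h : ℝ) * α) ^ 2 = 1 := by
      have := sin_sq_add_cos_sq ((h : ℝ) * α); rw [h0] at this; linarith
    have h1 : w h = cos ((h : ℝ) * α) := by
      show (sin ((h + 1) * α) + c * sin (h * α)) / sin α = _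
      rw [show ((h : ℝ) + 1) * α = (h : ℝ) * α + α by ring, sin_add, h0]; field_simp; ring
    refine ⟨by rw [h1, hC], ?_⟩
    show (sin ((((h - 1 : ℕ) : ℝ) + 1) * α) + c * sin (((h - 1 : ℕ) : ℝ) * α)) / sin α = _
    rw [h1, Nat.cast_sub hh, Nat.cast_one, sub_add_cancel, h0,
      show ((h : ℝ) - 1) * α = (h : ℝ) * α - α by ring, sin_sub, h0]
    field_simp; ring
  let a : ℕ → ℝ := fun i => w i / R ^ i
  set lam := x₀ * R + p + r with hlam
  refine ⟨a, lam, by simp [a, hw0], ?_, ?_, ?_, ?_⟩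
  · show (p + 1) * (1 + r * (w 1 / R ^ 1)) = lam
    rw [hw1, pow_one, hlam]
    field_simp
    apply mul_left_cancel₀ hR0.ne'
    linear_combination r * hcD + (1 - x₀ * R - r) * hRR
  · intro i hi hih hlt
    obtain ⟨k, rfl⟩ : ∃ k, i = k + 1 := ⟨i - 1, by omega⟩
    have hA : w k + w (k + 2) = x₀ * w (k + 1) := hrec k
    rw [show k + 1 - 1 = k by omega]
    rcases eq_or_lt_of_le hih with heq | hlt'
    · obtain ⟨hm1, hpr⟩ : m = 2 * h + 1 ∧ p = r := hm.resolve_left fun e => by
        have := hlt e; omega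
      have hl := (hodd hm1 hpr).1
      rw [← heq] at hl
      rw [hl] at hA
      rw [show min (k + 1 + 1) h = k + 1 by omega]
      show r * (w (k + 1) / R ^ (k + 1)) + w k / R ^ k + p * (w (k + 1) / R ^ (k + 1)) +
        p * r * (w (k + 1) / R ^ (k + 1)) = lam * (w (k + 1) / R ^ (k + 1))
      rw [hlam, pow_succ, ← hRR]
      field_simp
      linear_combination R * hA
    · rw [show min (k + 1 + 1) h = k + 2 by omega]
      show r * (w (k + 1) / R ^ (k + 1)) + w k / R ^ k + p * (w (k + 1) / R ^ (k + 1)) +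
        p * r * (w (k + 2) / R ^ (k + 2)) = lam * (w (k + 1) / R ^ (k + 1))
      rw [hlam, ← hRR, pow_succ R (k + 1), pow_succ R k]
      field_simp
      linear_combination R * hA
  · intro hm2
    obtain ⟨k, rfl⟩ : ∃ k, h = k + 1 := ⟨h - 1, by omega⟩
    have h2 := (heven hm2).2
    rw [show k + 1 - 1 = k by omega] at h2 ⊢
    show (p + 1) * (r * (w (k + 1) / R ^ (k + 1)) + w k / R ^ k) = lam * (w (k + 1) / R ^ (k + 1))
    rw [hlam, pow_succ, h2]
    field_simp
    linear_combination -(w (k + 1)) * hcD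
  · intro x hx
    have hxx : x = x₀ := by rw [hx, hx₀, hαdef]
    rw [hxx]
    have hF0 : ∀ i, i ≤ h → qw p r (2 * i) * a (min ((2 * i + 1) / 2) h) ^ 2 = w i ^ 2 := by
      intro i hi
      rw [qw, show (2 * i + 1) / 2 = i by omega, show 2 * i / 2 = i by omega, min_eq_left hi,
        ← mul_pow, mul_comm r p, ← hRR, ← pow_mul, mul_comm 2 i, pow_mul, ← mul_pow]
      congr 1
      show R ^ i * (w i / R ^ i) = w i
      field_simp
    have hF1 : ∀ i, i < h →
        qw p r (2 * i + 1) * a (min ((2 * i + 1 + 1) / 2) h) ^ 2 = w (i + 1) ^ 2 / p := by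
      intro i hi
      rw [qw, show (2 * i + 1 + 1) / 2 = i + 1 by omega, show (2 * i + 1) / 2 = i by omega,
        min_eq_left (by omega), eq_div_iff hp.ne']
      have hpw : r ^ (i + 1) * p ^ i * p = (R ^ (i + 1)) ^ 2 := by
        rw [mul_assoc, ← pow_succ, ← mul_pow, mul_comm r p, ← hRR, ← pow_mul, ← pow_mul, mul_comm]
      calc r ^ (i + 1) * p ^ i * (w (i + 1) / R ^ (i + 1)) ^ 2 * p
          = r ^ (i + 1) * p ^ i * p * (w (i + 1) / R ^ (i + 1)) ^ 2 := by ring
        _ = _ := by rw [hpw, ← mul_pow]; congr 1; field_simp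
    set C1 := ∑ i ∈ Finset.range h, w i ^ 2 with hC1
    have hshift : ∑ i ∈ Finset.range h, w (i + 1) ^ 2 = C1 - 1 + w h ^ 2 := by
      have e1 := Finset.sum_range_succ' (fun i => w i ^ 2) h
      have e2 := Finset.sum_range_succ (fun i => w i ^ 2) h
      rw [hw0] at e1
      rw [hC1]
      linarith
    have hpairs : ∑ k ∈ Finset.range (2 * h), qw p r k * a (min ((k + 1) / 2) h) ^ 2 =
        C1 + (C1 - 1 + w h ^ 2) / p := by
      rw [sum_range_two_mul, ← hshift, Finset.sum_div, hC1, ← Finset.sum_add_distrib]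
      refine Finset.sum_congr rfl fun i hi => ?_
      rw [hF0 i (Finset.mem_range.mp hi).le, hF1 i (Finset.mem_range.mp hi)]
    have hsum := sum_sq (c := c) hs h
    have hK : (1 + c ^ 2 + c * x₀) * ((p + 1) * R) ^ 2 =
        p * ((p * r + 1 - R * x₀) * (p + r + R * x₀)) := by
      linear_combination (c * ((p + 1) * R) + (p * (r - 1) - R * x₀) + x₀ * (p + 1) * R) * hcD +
        ((p + 1) ^ 2) * hRR
    have hs2 : 4 * sin α ^ 2 = 4 - x₀ ^ 2 := by
      rw [hx₀, sin_sq]; ring
    have hfinal : ∀ T : ℝ, T * (4 * sin α ^ 2) * p = m * (1 + c ^ 2 + c * x₀) * (p + 1) →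
        (p + 1) * T * ((4 - x₀ ^ 2) * (p * r)) =
          m * ((p * r + 1 - R * x₀) * (p + r + R * x₀)) := by
      intro T hT
      apply mul_left_cancel₀ hp.ne'
      rw [← hs2]
      linear_combination (r * p * (p + 1)) * hT + (m : ℝ) * hK -
        (m * (1 + c ^ 2 + c * x₀) * (p + 1) ^ 2) * hRR
    apply hfinal
    rcases hm with hm2 | ⟨hm1, hpr⟩
    · rw [hm2, hpairs, (heven hm2).1]
      have e1 : sin ((2 * (h : ℝ) + 1) * α) = sin α := by
        rw [show (2 * (h : ℝ) + 1) * α = (m : ℝ) * α + α by rw [hm2]; push_cast; ring, sin_add,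
          hsinm, hcosm]; ring
      have e2 : sin ((2 * (h : ℝ) - 1) * α) = -sin α := by
        rw [show (2 * (h : ℝ) - 1) * α = (m : ℝ) * α - α by rw [hm2]; push_cast; ring, sin_sub,
          hsinm, hcosm]; ring
      have e3 : sin (2 * (h : ℝ) * α) = 0 := by
        rw [show 2 * (h : ℝ) * α = (m : ℝ) * α by rw [hm2]; push_cast; ring, hsinm]
      rw [e1, e2, e3] at hsum
      have h4 : 4 * sin α ^ 2 * C1 = 2 * h * (1 + c ^ 2 + c * x₀) := by
        apply mul_left_cancel₀ hs
        rw [hC1, hx₀]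
        linear_combination hsum
      push_cast
      field_simp
      linear_combination (p + 1) * h4
    · rw [hm1, Finset.sum_range_succ, hpairs, hF0 h le_rfl]
      have e1 : sin ((2 * (h : ℝ) + 1) * α) = 0 := by
        rw [show (2 * (h : ℝ) + 1) * α = (m : ℝ) * α by rw [hm1]; push_cast; ring, hsinm]
      have e2 : sin ((2 * (h : ℝ) - 1) * α) = -(sin α * x₀) := by
        rw [show (2 * (h : ℝ) - 1) * α = (m : ℝ) * α - 2 * α by rw [hm1]; push_cast; ring,
          sin_sub, hsinm, hcosm, sin_two_mul, hx₀]; ring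
      have e3 : sin (2 * (h : ℝ) * α) = -sin α := by
        rw [show 2 * (h : ℝ) * α = (m : ℝ) * α - α by rw [hm1]; push_cast; ring, sin_sub, hsinm,
          hcosm]; ring
      rw [e1, e2, e3] at hsum
      have h4 : 4 * sin α ^ 2 * C1 =
          2 * h * (1 + c ^ 2 + c * x₀) + 1 + 2 * c + c ^ 2 * (x₀ - 1) := by
        apply mul_left_cancel₀ hs
        rw [hC1, hx₀] at *
        linear_combination hsum
      have h5 := (hodd hm1 hpr).2
      have hRp : R = p := by rw [hR, ← hpr, Real.sqrt_mul_self hp.le]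
      have hc2 : (1 - c) * (p + 1) = 2 + x₀ := by
        apply mul_left_cancel₀ hp.ne'
        rw [hRp, ← hpr] at hcD
        linear_combination -hcD
      push_cast
      field_simp
      linear_combination (p + 1) * h4 + (p + 1) * h5 + ((1 - c) * (2 - x₀) - (2 - x₀) + (2 - x₀) * c) * 0 +
        (2 - x₀) * hc2 - hs2

end Cfsg.Agent.H38.FH
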