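import Cfsg.Agent.H38.FH.Dihedral
import Cfsg.Agent.H38.FH.Cells
import Cfsg.Agent.H38.FH.Spherical
import Cfsg.Agent.H38.FH.Rational

/-! The Feit–Higman theorem for BN-pairs of rank two. -/

set_option autoImplicit false

namespace Cfsg.Agent.H38.FH

open Cfsg.Agent.H27.BN

universe u

variable {G : Type u} [Group G] {P : Cfsg.BNPair G} {s t : G} (hs : s ∈ P.S) (ht : t ∈ P.S)

lemma wlen_prod_le : ∀ l : List (Weyl P), (∀ x ∈ l, x = gen P s hs ∨ x = gen P t ht) →
    ∃ l' : List G, (∀ g ∈ l', g ∈ P.S) ∧ l'.length = l.length ∧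
      ∀ hl : l'.prod ∈ P.N, ((⟨l'.prod, hl⟩ : P.N) : Weyl P) = l.prod
  | [], _ => ⟨[], by simp, rfl, fun hl => by
      conv_rhs => rw [List.prod_nil, ← QuotientGroup.mk_one]
      rfl⟩
  | x :: l, hl => by
    obtain ⟨l', h1, h2, h3⟩ := wlen_prod_le l fun y hy => hl y (List.mem_cons_of_mem x hy)
    obtain ⟨u, hu, rfl⟩ : ∃ u, ∃ hu : u ∈ P.S, x = gen P u hu := by
      rcases hl x List.mem_cons_self with rfl | rfl
      exacts [⟨s, hs, rfl⟩, ⟨t, ht, rfl⟩]
    refine ⟨u :: l', ?_, by simp [h2], fun hl' => ?_⟩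
    · intro g hg
      rcases List.mem_cons.mp hg with rfl | hg
      exacts [hu, h1 g hg]
    · conv_rhs => rw [List.prod_cons, ← h3 (prod_mem_N P h1), gen, ← QuotientGroup.mk_mul]
      rfl

lemma wlen_le (l : List (Weyl P)) (hl : ∀ x ∈ l, x = gen P s hs ∨ x = gen P t ht) :
    wlen l.prod ≤ l.length := by
  obtain ⟨l', h1, h2, h3⟩ := wlen_prod_le hs ht l hl
  rw [← h3 (prod_mem_N P h1), wlen_mk, ← h2]
  exact len_le P h1 (Eqv.refl _)

lemma exists_letters (hS : ∀ u ∈ P.S, u = s ∨ u = t) (w : Weyl P) :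
    ∃ l : List (Weyl P), (∀ x ∈ l, x = gen P s hs ∨ x = gen P t ht) ∧ l.prod = w ∧
      l.length = wlen w := by
  obtain ⟨n, rfl⟩ := QuotientGroup.mk_surjective w
  obtain ⟨l, hk, hl, he⟩ := len_spec P n.2
  rw [wlen_mk, ← hk]
  have hmk : ((n : Weyl P)) = ((⟨l.prod, prod_mem_N P hl⟩ : P.N) : Weyl P) := (mk_eq_iff _ _).mpr he
  rw [hmk]
  clear hk he hmk
  induction l with
  | nil => exact ⟨[], by simp, by rw [List.prod_nil, ← QuotientGroup.mk_one]; rfl, rfl⟩
  | cons u l ih =>
    have hu : u ∈ P.S := hl u List.mem_cons_self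
    obtain ⟨l', h1, h2, h3⟩ := ih fun x hx => hl x (List.mem_cons_of_mem u hx)
    refine ⟨gen P u hu :: l', ?_, ?_, by simp [h3]⟩
    · intro x hx
      rcases List.mem_cons.mp hx with rfl | hx
      · rcases hS u hu with rfl | rfl
        exacts [Or.inl rfl, Or.inr rfl]
      · exact h1 x hx
    · rw [List.prod_cons, h2, gen, ← QuotientGroup.mk_mul]
      rfl

lemma isPair (hst : s ≠ t) (hS : ∀ u ∈ P.S, u = s ∨ u = t) :
    IsPair (gen P s hs) (gen P t ht) := by
  refine ⟨gen_mul_self hs, gen_mul_self ht, gen_ne_one hs, gen_ne_one ht, fun e => hst ?_, ?_⟩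
  · rw [gen, gen, mk_eq_iff] at e
    exact P.inj s hs t ht e
  · refine eq_top_iff.mpr fun w _ => ?_
    obtain ⟨l, h1, rfl, -⟩ := exists_letters hs ht hS w
    refine list_prod_mem fun x hx => Subgroup.subset_closure ?_
    rcases h1 x hx with h | h <;> simp [h]

variable [Finite G] (hst : s ≠ t) (hS : ∀ u ∈ P.S, u = s ∨ u = t)

local notation "σa" => gen P s hs
local notation "σb" => gen P t ht

include hst hS in
lemma wlen_alt {k : ℕ} (hk : k ≤ orderOf (σa * σb)) : wlen (alt σa σb k) = k := by
  have hp := isPair hs ht hst hS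
  refine le_antisymm ?_ ?_
  · have key : ∀ k : ℕ, ∀ x y : Weyl P, (x = σa ∧ y = σb ∨ x = σb ∧ y = σa) →
        ∃ l : List (Weyl P), (∀ z ∈ l, z = σa ∨ z = σb) ∧ l.prod = alt x y k ∧ l.length = k := by
      intro k
      induction k with
      | zero => exact fun x y _ => ⟨[], by simp, by simp, rfl⟩
      | succ k ih =>
        intro x y hxy
        obtain ⟨l, h1, h2, h3⟩ := ih y x (by tauto)
        refine ⟨x :: l, ?_, by rw [List.prod_cons, h2, alt_succ], by simp [h3]⟩
        intro z hz
        rcases List.mem_cons.mp hz with rfl | hz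
        · tauto
        · exact h1 z hz
    obtain ⟨l, h1, h2, h3⟩ := key k σa σb (Or.inl ⟨rfl, rfl⟩)
    rw [← h2]
    exact (wlen_le hs ht l h1).trans h3.le
  · obtain ⟨l, h1, h2, h3⟩ := exists_letters hs ht hS (alt σa σb k)
    by_contra hlt
    push Not at hlt
    obtain ⟨j, hj, he⟩ := hp.reduce l h1
    rw [h2] at he
    have := hp.alt_ne hk (show j < k by omega)
    tauto

include hst hS in
lemma wlen_alt' {k : ℕ} (hk : k ≤ orderOf (σa * σb)) : wlen (alt σb σa k) = k :=
  wlen_alt ht hs hst.symm (fun u hu => (hS u hu).symm)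
    (by rwa [(isPair hs ht hst hS).order_swap])

include hst hS in
lemma cellSize_alt : ∀ k : ℕ, k ≤ orderOf (σa * σb) →
    cellSize P (alt σb σa k) = cellSize P σb ^ ((k + 1) / 2) * cellSize P σa ^ (k / 2) ∧
    cellSize P (alt σa σb k) = cellSize P σa ^ ((k + 1) / 2) * cellSize P σb ^ (k / 2) := by
  intro k
  induction k with
  | zero => intro; simp [cellSize_one]
  | succ k ih =>
    intro hk
    obtain ⟨e1, e2⟩ := ih (by omega)
    have u1 : wlen (alt σa σb k) < wlen (σb * alt σa σb k) := by
      rw [← alt_succ, wlen_alt' hs ht hst hS hk, wlen_alt hs ht hst hS (by omega)]; omega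
    have u2 : wlen (alt σb σa k) < wlen (σa * alt σb σa k) := by
      rw [← alt_succ, wlen_alt hs ht hst hS hk, wlen_alt' hs ht hst hS (by omega)]; omega
    rw [alt_succ, alt_succ, cellSize_gen_mul ht u1, cellSize_gen_mul hs u2, e1, e2,
      show (k + 1 + 1) / 2 = k / 2 + 1 by omega]
    constructor <;> ring

lemma lop_gen_mul (g : Weyl P → ℝ) (w : Weyl P) : lop P s hs g (σa * w) = lop P s hs g w := by
  have hw : σa * (σa * w) = w := by rw [← mul_assoc, gen_mul_self, one_mul]
  have hne := wlen_gen_ne hs w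
  unfold lop
  rw [hw]
  split_ifs with h1 h2 h2 <;> first | omega | ring

include hst hS in
/-- The product of the two rank-one operators at a minimal coset representative. -/
lemma lop_lop_apply (φ : Weyl P → ℝ) (j : ℕ) (hj : j < orderOf (σa * σb)) :
    lop P s hs (lop P t ht φ) (alt σb σa j) =
      (if j = 0 then φ 1 + cellSize P σb * φ σb
        else cellSize P σb * φ (alt σb σa j) + φ (alt σa σb (j - 1))) +
      cellSize P σa * (if j + 2 ≤ orderOf (σa * σb)
        then φ (alt σa σb (j + 1)) + cellSize P σb * φ (alt σb σa (j + 2))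
        else cellSize P σb * φ (alt σa σb (j + 1)) + φ (alt σa σb j)) := by
  have hp := isPair hs ht hst hS
  have hup : wlen (alt σb σa j) < wlen (σa * alt σb σa j) := by
    rw [← alt_succ, wlen_alt hs ht hst hS hj, wlen_alt' hs ht hst hS hj.le]; omega
  have hdef : ∀ (w : Weyl P), lop P s hs (lop P t ht φ) w = if wlen w < wlen (σa * w) then
      lop P t ht φ w + cellSize P σa * lop P t ht φ (σa * w) else
      cellSize P σa * lop P t ht φ w + lop P t ht φ (σa * w) := fun w => rfl
  rw [hdef, if_pos hup, ← alt_succ]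
  congr 1
  · cases j with
    | zero =>
      rw [if_pos rfl]
      unfold lop
      rw [alt_zero, mul_one, if_pos]
      have h1 := wlen_alt' hs ht hst hS (k := 1) (by omega)
      have h0 := wlen_alt' hs ht hst hS (k := 0) (by omega)
      rw [alt_one] at h1
      rw [alt_zero] at h0
      omega
    | succ i =>
      rw [if_neg (Nat.succ_ne_zero i), Nat.add_sub_cancel]
      unfold lop
      rw [hp.swap.mul_alt_succ i, if_neg]
      rw [wlen_alt hs ht hst hS (by omega), wlen_alt' hs ht hst hS hj.le]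
      omega
  · congr 1
    unfold lop
    split_ifs with h2 h3 h3
    · rfl
    · exfalso
      have hm : j + 1 = orderOf (σa * σb) := by omega
      rw [hm, hp.alt_top, ← hm, hp.swap.mul_alt_succ j, hm, ← hp.alt_top,
        wlen_alt hs ht hst hS le_rfl, wlen_alt hs ht hst hS (by omega)] at h2
      omega
    · exfalso; apply h2
      rw [← alt_succ, wlen_alt' hs ht hst hS h3, wlen_alt hs ht hst hS (by omega)]; omega
    · have hm : j + 1 = orderOf (σa * σb) := by omega
      rw [show σb * alt σa σb (j + 1) = alt σa σb j by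
        rw [hm, hp.alt_top, ← hm, hp.swap.mul_alt_succ j]]

include hs ht hst hS in
/-- Feit–Higman. -/
theorem order_mem : orderOf (σa * σb) ∈ ({2, 3, 4, 6, 8} : Set ℕ) := by
  classical
  have hp := isPair hs ht hst hS
  set m := orderOf (σa * σb) with hm
  set p := cellSize P σa with hpdef
  set r := cellSize P σb with hrdef
  have hp2 : 2 ≤ p := two_le_cellSize hs
  have hr2 : 2 ≤ r := two_le_cellSize ht
  have hm2 : 2 ≤ m := hp.one_lt_order
  have hpodd : Odd m → p = r := fun ⟨h, hh⟩ => by
    have h1 := (cellSize_alt hs ht hst hS m le_rfl).1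
    have h2 := (cellSize_alt hs ht hst hS m le_rfl).2
    rw [hp.alt_top, h1, show (m + 1) / 2 = h + 1 by omega, show m / 2 = h by omega,
      ← hpdef, ← hrdef] at h2
    rw [pow_succ, pow_succ, mul_right_comm, mul_right_comm (p ^ h), mul_comm (r ^ h)] at h2
    exact (Nat.eq_of_mul_eq_mul_left (by positivity) h2).symm
  refine arith hp2 hr2 hm2 hpodd fun j hj hjm => ?_
  set h := m / 2 with hh
  have hp0 : (0 : ℝ) < p := by exact_mod_cast (by omega : 0 < p)
  have hr0 : (0 : ℝ) < r := by exact_mod_cast (by omega : 0 < r)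
  obtain ⟨a, lam, ha0, hE0, hEi, hEend, hS'⟩ := spherical (m := m) (h := h) (j := j) hp0 hr0 (by
    rcases Nat.even_or_odd m with ⟨k, hk⟩ | hodd
    · exact Or.inl (by omega)
    · refine Or.inr ⟨?_, by rw [hpodd hodd]⟩
      obtain ⟨k, hk⟩ := hodd; omega) hj hjm
  let e : Fin m × Fin 2 ≃ Weyl P := Equiv.ofBijective _ hp.enum_bijective
  let f : Weyl P → ℝ := fun w => a (min (((e.symm w).1 + 1) / 2) h)
  have fe : ∀ q, f (e q) = a (min ((q.1 + 1) / 2) h) := fun q => by
    show a _ = _
    rw [Equiv.symm_apply_apply]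
  have fb : ∀ k, k ≤ m → f (alt σb σa k) = a (min ((k + 1) / 2) h) := by
    intro k hk
    rcases lt_or_eq_of_le hk with hk | rfl
    · have := fe (⟨k, hk⟩, 0)
      simpa [e] using this
    · obtain ⟨i, hi⟩ : ∃ i, m = i + 1 := ⟨m - 1, by omega⟩
      have := fe (⟨i, by omega⟩, 1)
      simp only [e, Equiv.ofBijective_apply] at this
      rw [if_neg (by decide)] at this
      simp only [← hi, hm, hp.alt_top] at this
      rw [this]
      congr 1
      omega
  have fa : ∀ k, k ≤ m → f (alt σa σb k) = a (min (k / 2) h) := by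
    intro k hk
    cases k with
    | zero => simpa using fb 0 (by omega)
    | succ i =>
      have := fe (⟨i, by omega⟩, 1)
      simp only [e, Equiv.ofBijective_apply] at this
      rw [if_neg (by decide)] at this
      exact this
  have hcases : ∀ w, ∃ k < m, w = alt σb σa k ∨ w = σa * alt σb σa k := by
    intro w
    obtain ⟨⟨k, ε⟩, rfl⟩ := e.surjective w
    refine ⟨k, k.2, ?_⟩
    simp only [e, Equiv.ofBijective_apply]
    split_ifs
    · exact Or.inl rfl
    · exact Or.inr rfl
  have finv : ∀ w, f (σa * w) = f w := by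
    intro w
    obtain ⟨k, hk, rfl | rfl⟩ := hcases w
    · rw [← alt_succ, fa _ hk, fb _ hk.le]
    · rw [← mul_assoc, hp.sq_a, one_mul, ← alt_succ, fa _ hk, fb _ hk.le]
  have fsymm : ∀ w, f w⁻¹ = f w := by
    have key : ∀ k, k ≤ m → f (alt σb σa k)⁻¹ = f (alt σb σa k) ∧
        f (alt σa σb k)⁻¹ = f (alt σa σb k) := by
      intro k hk
      rcases Nat.even_or_odd k with hke | hko
      · obtain ⟨i, hi⟩ := hke
        rw [(hp.swap.alt_inv k).2 ⟨i, hi⟩, (hp.alt_inv k).2 ⟨i, hi⟩, fa k hk, fb k hk,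
          show (k + 1) / 2 = k / 2 by omega]
        simp
      · rw [(hp.swap.alt_inv k).1 hko, (hp.alt_inv k).1 hko]
        simp
    intro w
    obtain ⟨k, hk, rfl | rfl⟩ := hcases w
    · exact (key k hk.le).1
    · exact (key (k + 1) hk).2
  -- the eigen equations
  have hLa : lop P s hs f = fun w => ((p : ℝ) + 1) * f w := by
    funext w
    unfold lop
    rw [finv, ← hpdef]
    split_ifs <;> ring
  have hrep : ∀ k, k < m → lop P s hs (lop P t ht f) (alt σb σa k) = lam * f (alt σb σa k) := by
    intro k hk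
    rw [lop_lop_apply hs ht hst hS f k hk, ← hpdef, ← hrdef, ← hm, fb k hk.le]
    by_cases hk0 : k = 0
    · subst hk0
      have h1 := fb 1 (by omega)
      have h0 := fb 0 (by omega)
      rw [alt_one] at h1
      rw [alt_zero] at h0
      rw [if_pos rfl, if_pos (by omega), h0, h1, fa 1 (by omega), fb 2 hm2]
      simp only [Nat.zero_add, show (1 + 1) / 2 = 1 from rfl, show (2 + 1) / 2 = 1 from rfl,
        show (1 : ℕ) / 2 = 0 from rfl, Nat.zero_min, show min 1 h = 1 by omega, ha0]
      linear_combination hE0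
    obtain ⟨i, hi, hi1⟩ : ∃ i, i = (k + 1) / 2 ∧ 1 ≤ i := ⟨_, rfl, by omega⟩
    rw [if_neg hk0, fa (k - 1) (by omega), fa (k + 1) (by omega), ← hi,
      show min i h = i by omega, show (k - 1) / 2 = i - 1 by omega,
      show min (i - 1) h = i - 1 by omega]
    by_cases hk2 : k + 2 ≤ m
    · rw [if_pos hk2, fb (k + 2) hk2, show (k + 2 + 1) / 2 = i + 1 by omega]
      linear_combination hEi i hi1 (by omega) (fun hm2h => by omega)
    · rw [if_neg hk2, fa k hk.le]
      rcases Nat.even_or_odd m with ⟨q, hq⟩ | ⟨q, hq⟩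
      · rw [show min (k / 2) h = i - 1 by omega, show i = h by omega]
        linear_combination hEend (by omega)
      · have := hEi i hi1 (by omega) (fun hm2h => by omega)
        rw [show min (i + 1) h = i by omega] at this
        rw [show min (k / 2) h = i by omega]
        linear_combination this
  have hLab : lop P s hs (lop P t ht f) = fun w => lam * f w := by
    funext w
    obtain ⟨k, hk, rfl | rfl⟩ := hcases w
    · exact hrep k hk
    · rw [lop_gen_mul hs, hrep k hk, finv]
  -- the square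
  set M := ker P f with hM
  obtain ⟨g, hg⟩ := exists_ker (ker_mul_invariant (P := P) f f)
  rw [← hM] at hg
  have hMT : M.transpose = M := by
    rw [hM, ker_transpose, show (fun w => f w⁻¹) = f from funext fsymm]
  have gsymm : ∀ w, g w⁻¹ = g w := by
    refine congrFun (ker_injective (P := P) ?_)
    rw [← ker_transpose, ← hg, Matrix.transpose_mul, hMT]
  have hsmul : ∀ (c : ℝ) (φ : Weyl P → ℝ), ker P (fun w => c * φ w) = c • ker P φ :=
    fun c φ => by ext x y; rfl
  have ginv : ∀ w, g (σa * w) = g w := by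
    have h1 : lop P s hs g = fun w => ((p : ℝ) + 1) * g w := by
      apply ker_injective (P := P)
      rw [← ker_ind_mul, ← hg, ← Matrix.mul_assoc, hM, ker_ind_mul, hLa, hsmul, Matrix.smul_mul,
        ← hM, hg, ← hsmul]
    intro w
    have h2 := congrFun h1 w
    unfold lop at h2
    rw [← hpdef] at h2
    split_ifs at h2 with hw
    · exact mul_left_cancel₀ hp0.ne' (by linarith)
    · linarith
  have gLab : lop P s hs (lop P t ht g) = fun w => lam * g w := by
    apply ker_injective (P := P)
    rw [← ker_ind_mul, ← ker_ind_mul, ← hg, ← Matrix.mul_assoc (ker P (ind P t ht)), ← Matrix.mul_assoc,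
      hM, ker_ind_mul, ker_ind_mul, hLab, hsmul, Matrix.smul_mul, ← hM, hg, ← hsmul]
  have gprop : ∀ w, g w = g 1 * f w := by
    have hab : ∀ k, k < m → g (alt σa σb (k + 1)) = g (alt σb σa k) := fun k _ => by
      rw [alt_succ, ginv]
    have heven : ∀ k, Even k → g (alt σb σa k) = g (alt σa σb k) := fun k hk => by
      rw [← (hp.alt_inv k).2 hk, gsymm]
    have feven : ∀ k, k ≤ m → Even k → f (alt σb σa k) = f (alt σa σb k) := fun k _ hk => by
      rw [← (hp.alt_inv k).2 hk, fsymm]
    have fab : ∀ k, k < m → f (alt σa σb (k + 1)) = f (alt σb σa k) := fun k _ => by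
      rw [alt_succ, finv]
    have key : ∀ k, k < m → g (alt σb σa k) = g 1 * f (alt σb σa k) := by
      intro k
      induction k using Nat.strong_induction_on with
      | _ k ih =>
        intro hk
        by_cases hk0 : k = 0
        · subst hk0
          rw [fb 0 (by omega)]
          simp [ha0]
        rcases Nat.even_or_odd k with ⟨i, hi⟩ | ⟨i, hi⟩
        · obtain ⟨l, rfl⟩ : ∃ l, k = l + 1 := ⟨k - 1, by omega⟩
          rw [heven _ ⟨i, hi⟩, feven _ hk.le ⟨i, hi⟩, hab l (by omega), fab l (by omega),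
            ih l (by omega) (by omega)]
        · obtain ⟨l, rfl⟩ : ∃ l, k = l + 1 := ⟨k - 1, by omega⟩
          have hl2 : l + 2 ≤ m := hk
          have e1 := congrFun gLab (alt σb σa l)
          have e2 := congrFun hLab (alt σb σa l)
          rw [lop_lop_apply hs ht hst hS g l (by omega), ← hpdef, ← hrdef, ← hm, if_pos hl2,
            hab l (by omega)] at e1
          rw [lop_lop_apply hs ht hst hS f l (by omega), ← hpdef, ← hrdef, ← hm, if_pos hl2,
            fab l (by omega)] at e2
          have htop : g (alt σb σa (l + 2)) = g (alt σb σa (l + 1)) := by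
            rw [heven (l + 2) ⟨i + 1, by omega⟩, hab (l + 1) hk]
          have ftop : f (alt σb σa (l + 2)) = f (alt σb σa (l + 1)) := by
            rw [feven (l + 2) hl2 ⟨i + 1, by omega⟩, fab (l + 1) hk]
          rw [htop] at e1
          rw [ftop] at e2
          have hl := ih l (by omega) (by omega)
          by_cases hl0 : l = 0
          · subst hl0
            rw [if_pos rfl] at e1 e2
            rw [alt_zero] at e1 e2 hl
            have hb1 : alt σb σa (0 + 1) = σb := alt_one _ _
            rw [hb1] at e1 e2 ⊢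
            apply mul_left_cancel₀ (mul_pos (by linarith : (0:ℝ) < p + 1) hr0).ne'
            linear_combination e1 - (g 1) * e2 + (lam - p - 1) * hl
          · obtain ⟨l', rfl⟩ : ∃ l', l = l' + 1 := ⟨l - 1, by omega⟩
            rw [if_neg hl0, Nat.add_sub_cancel] at e1 e2
            have hl'' : 1 ≤ l' := by omega
            obtain ⟨l'', rfl⟩ : ∃ l'', l' = l'' + 1 := ⟨l' - 1, by omega⟩
            rw [hab l'' (by omega)] at e1
            rw [fab l'' (by omega)] at e2
            have hl3 := ih l'' (by omega) (by omega)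
            apply mul_left_cancel₀ (mul_pos hp0 hr0).ne'
            linear_combination e1 - (g 1) * e2 + (lam - p - r) * hl - hl3
    intro w
    obtain ⟨k, hk, rfl | rfl⟩ := hcases w
    · exact key k hk
    · rw [ginv, finv, key k hk]
  -- the trace
  set S := ∑ w, (cellSize P w : ℝ) * f w ^ 2 with hSdef
  have hf1 : f 1 = 1 := by
    have := fb 0 (by omega)
    rw [alt_zero] at this
    rw [this]
    simp [ha0]
  let x₀ : G ⧸ P.B := ((1 : G) : G ⧸ P.B)
  have hg1 : g 1 = S := by
    have := sq_sum fsymm x₀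
    rw [← hM, hg, ker_mk] at this
    simpa [cls_eq_one.mpr (one_mem P.B)] using this
  have hMM : M * M = S • M := by
    rw [hg, hM, ← hsmul]
    exact congrArg (ker P) (funext fun w => by rw [gprop, hg1])
  have hS0 : 0 < S := by
    refine Finset.sum_pos' (fun w _ => by positivity) ⟨1, Finset.mem_univ _, ?_⟩
    rw [hf1, cellSize_one]; norm_num
  have htr : M.trace = Nat.card (G ⧸ P.B) := by
    rw [Matrix.trace, Nat.card_eq_fintype_card, ← Finset.card_univ, Finset.card_eq_sum_ones,
      Nat.cast_sum]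
    refine Finset.sum_congr rfl fun x _ => ?_
    show f (cls P (x.out⁻¹ * x.out)) = _
    rw [inv_mul_cancel, cls_eq_one.mpr (one_mem P.B), hf1, Nat.cast_one]
  obtain ⟨K, hK⟩ : ∃ K : ℕ, (Nat.card (G ⧸ P.B) : ℝ) / S = K := by
    set L := Matrix.toLin' (S⁻¹ • M)
    have hidem : L ∘ₗ L = L := by
      rw [← Matrix.toLin'_mul, Matrix.smul_mul, Matrix.mul_smul, hMM, smul_smul,
        smul_smul, mul_assoc, inv_mul_cancel₀ hS0.ne', mul_one]
    have hproj : LinearMap.IsProj (LinearMap.range L) L :=
      ⟨fun x => LinearMap.mem_range_self L x, fun x ⟨y, hy⟩ => by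
        rw [← hy, ← LinearMap.comp_apply, hidem]⟩
    refine ⟨Module.finrank ℝ (LinearMap.range L), ?_⟩
    rw [← hproj.trace, Matrix.trace_toLin'_eq, Matrix.trace_smul, htr, smul_eq_mul]
    ring
  have hK0 : (0 : ℝ) < K := hK ▸ div_pos (by exact_mod_cast Nat.card_pos) hS0
  refine ⟨(Nat.card (G ⧸ P.B) * p * r : ℚ) / (K * m), fun x hx => ?_⟩
  have hmain := hS' x hx
  have hsum : ((p : ℝ) + 1) *
      (∑ k ∈ Finset.range m, qw p r k * a (min ((k + 1) / 2) h) ^ 2) = S := by
    rw [hSdef, ← Fintype.sum_equiv e (fun q => (cellSize P (e q) : ℝ) * f (e q) ^ 2) _ fun _ => rfl,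
      Fintype.sum_prod_type, ← Fin.sum_univ_eq_sum_range, Finset.mul_sum]
    refine Finset.sum_congr rfl fun k _ => ?_
    rw [Fin.sum_univ_two, fe, fe]
    simp only [e, Equiv.ofBijective_apply, Fin.isValue, one_ne_zero, if_true, if_false]
    rw [alt_succ, cellSize_gen_mul hs (by
      rw [← alt_succ, wlen_alt hs ht hst hS k.2, wlen_alt' hs ht hst hS k.2.le]; omega),
      (cellSize_alt hs ht hst hS k k.2.le).1, ← hpdef, ← hrdef, qw]
    push_cast
    ring
  rw [hsum] at hmain
  push_cast
  have hm0 : (0 : ℝ) < m := by exact_mod_cast (by omega : 0 < m)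
  have hKS : (K : ℝ) * S = Nat.card (G ⧸ P.B) := by rw [← hK]; field_simp
  field_simp
  linear_combination -(K : ℝ) * hmain + ((4 - x ^ 2) * p * r) * hKS

theorem index_mem {G : Type u} [Group G] [Finite G] (P : Cfsg.BNPair G) (h2 : P.rank = 2) :
    ((P.B ⊓ P.N).subgroupOf P.N).index ∈ ({4, 6, 8, 12, 16} : Set ℕ) := by
  obtain ⟨s, t, hst, hSe⟩ := Set.ncard_eq_two.mp ((Nat.card_coe_set_eq P.S).symm.trans h2)
  have hs : s ∈ P.S := hSe ▸ Set.mem_insert s {t}
  have ht : t ∈ P.S := hSe ▸ Set.mem_insert_of_mem s rfl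
  have hS : ∀ u ∈ P.S, u = s ∨ u = t := fun u hu => by rw [hSe] at hu; simpa using hu
  rw [Subgroup.index, show Nat.card (↥P.N ⧸ (P.B ⊓ P.N).subgroupOf P.N) = _ from
    (isPair hs ht hst hS).card_eq]
  have := order_mem hs ht hst hS
  simp only [Set.mem_insert_iff, Set.mem_singleton_iff] at this ⊢
  omega

end Cfsg.Agent.H38.FH
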